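import Cfsg.Agent.Lib.Recog.ThreeCubedVectors

/-!
# Four vectors of norm four against two weights
-/

set_option autoImplicit false
set_option linter.unusedSectionVars false
set_option linter.unusedSimpArgs false

namespace Cfsg.Lib.Recog.NineEight

open Matrix
open Cfsg.Lib.Recog.ThreeCubed (norm_one_eq_single norm_two_eq_singles sub_single_norm wsum
  wsum_add wsum_single)

/-- The inverse of the moment matrix of three weighted points. -/
theorem triangle {m a b : Fin 3 → ℂ} {R A B C : ℂ} (h1 : ∑ i, m i = -1) (ha : ∑ i, m i * a i = 0)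
    (hb : ∑ i, m i * b i = 0) (haa : ∑ i, m i * a i * a i = R * A)
    (hab : ∑ i, m i * a i * b i = R * B) (hbb : ∑ i, m i * b i * b i = R * C)
    (hR : R ≠ 0) (hD : A * C - B ^ 2 ≠ 0) (i j : Fin 3) :
    C * a i * a j - B * (a i * b j + a j * b i) + A * b i * b j =
      R * (A * C - B ^ 2) * ((if i = j then 1 / m i else 0) + 1) := by
  have hne : R * (A * C - B ^ 2) ≠ 0 := mul_ne_zero hR hD
  obtain ⟨e, hee⟩ : ∃ e, e * (R * (A * C - B ^ 2)) = 1 := ⟨_, inv_mul_cancel₀ hne⟩
  let U : Matrix (Fin 3) (Fin 3) ℂ := Matrix.of ![m, fun k => m k * a k, fun k => m k * b k]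
  let W : Matrix (Fin 3) (Fin 3) ℂ :=
    Matrix.of fun k => ![-1, (C * a k - B * b k) * e, (-B * a k + A * b k) * e]
  simp only [Fin.sum_univ_three] at h1 ha hb haa hab hbb
  have hUW : U * W = 1 := by
    ext k l
    simp only [Matrix.mul_apply, Fin.sum_univ_three, U, W, Matrix.of_apply]
    fin_cases k <;> fin_cases l <;> simp
    · linear_combination -h1
    · linear_combination (C * e) * ha - (B * e) * hb
    · linear_combination (-B * e) * ha + (A * e) * hb
    · linear_combination -ha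
    · linear_combination (C * e) * haa - (B * e) * hab + hee
    · linear_combination (-B * e) * haa + (A * e) * hab
    · linear_combination -hb
    · linear_combination (C * e) * hab - (B * e) * hbb
    · linear_combination (-B * e) * hab + (A * e) * hbb + hee
  have hWU := Matrix.ext_iff.mpr (show W * U = 1 from mul_eq_one_comm.mp hUW) i j
  simp only [Matrix.mul_apply, Fin.sum_univ_three, U, W, Matrix.of_apply] at hWU
  simp only [Matrix.cons_val_zero, Matrix.cons_val_one, Matrix.cons_val, Matrix.one_apply] at hWU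
  by_cases hij : i = j
  · subst hij
    rw [if_pos rfl] at hWU ⊢
    have hm : m i ≠ 0 := by
      intro h0
      simp [h0] at hWU
    field_simp
    linear_combination (R * (A * C - B ^ 2)) * hWU -
      (m i * (C * a i * a i - B * (a i * b i + a i * b i) + A * b i * b i)) * hee
  · rw [if_neg hij] at hWU ⊢
    have hm : m j ≠ 0 := by
      intro h0
      have h' := Matrix.ext_iff.mpr (show W * U = 1 from mul_eq_one_comm.mp hUW) j j
      simp [Matrix.mul_apply, Fin.sum_univ_three, U, W, h0] at h'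
    refine mul_left_cancel₀ hm ?_
    linear_combination (R * (A * C - B ^ 2)) * hWU -
      (m j * (C * a i * a j - B * (a i * b j + a j * b i) + A * b i * b j)) * hee

universe u

variable {ι : Type u} [Fintype ι] [DecidableEq ι]

theorem norm_three_eq_singles {v : ι → ℤ} (h : v ⬝ᵥ v = 3) :
    ∃ f : Fin 3 → ι, Function.Injective f ∧ (∀ k, v (f k) = 1 ∨ v (f k) = -1) ∧
      ∀ y, v y ≠ 0 → ∃ k, f k = y := by
  obtain ⟨x, hx⟩ : ∃ x, v x ≠ 0 := by
    by_contra h'
    push Not at h'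
    simp [dotProduct, h'] at h
  have hle : v x * v x ≤ 3 := h ▸ Finset.single_le_sum (f := fun y => v y * v y)
    (fun _ _ => mul_self_nonneg _) (Finset.mem_univ x)
  have h1 : v x = 1 ∨ v x = -1 := by
    have : v x ≤ 1 := by nlinarith
    have : -1 ≤ v x := by nlinarith
    omega
  have h0 := sub_single_norm v x
  rw [h, show v x * v x = 1 by rcases h1 with e | e <;> simp [e]] at h0
  obtain ⟨y, z, ε, η, hyz, hε, hη, hv⟩ :=
    norm_two_eq_singles (v := v - Pi.single x (v x)) (by rw [h0]; rfl)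
  have hval : ∀ t, v t = (if t = x then v x else 0) + ((if t = y then ε else 0) +
      if t = z then η else 0) := by
    intro t
    have := congrFun hv t
    simp only [Pi.sub_apply, Pi.add_apply, Pi.single_apply] at this
    rw [← this]; ring
  have hxy : y ≠ x := by
    intro e
    have h' := hval x
    rw [← e] at h'
    rw [if_pos rfl, if_pos rfl, if_neg hyz] at h'
    rcases hε with e' | e' <;> omega
  have hxz : z ≠ x := by
    intro e
    have h' := hval x
    rw [← e] at h'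
    rw [if_pos rfl, if_pos rfl, if_neg hyz.symm] at h'
    rcases hη with e' | e' <;> omega
  refine ⟨![x, y, z], ?_, ?_, ?_⟩
  · intro k l hkl
    fin_cases k <;> fin_cases l <;>
      simp [hxy, hxz, hyz, hxy.symm, hxz.symm, hyz.symm] at hkl ⊢
  · intro k
    fin_cases k
    · exact h1
    · show v y = 1 ∨ v y = -1
      rw [hval y, if_neg hxy, if_pos rfl, if_neg hyz]; simpa using hε
    · show v z = 1 ∨ v z = -1
      rw [hval z, if_neg hxz, if_neg hyz.symm, if_pos rfl]; simpa using hη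
  · intro t ht
    by_contra hne
    push Not at hne
    refine ht ?_
    have n0 : x ≠ t := hne 0
    have n1 : y ≠ t := hne 1
    have n2 : z ≠ t := hne 2
    rw [hval t, if_neg n0.symm, if_neg n1.symm, if_neg n2.symm]
    simp

theorem no_root_K1 {x Q T : ℤ} (hx9 : x % 9 = 2) (hQ9 : Q % 9 = 5)
    (h1 : 8 * (x + 1) * (Q + 1) = 9 * x * Q) (h2 : 81 * x * (1 + T) = 64 * (x + 1) * T) : False := by
  have h3 : (x - 8) * (Q - 8) = 72 := by linear_combination -h1 + 0 * hx9
  have hd : (x - 8) ∣ 72 := ⟨_, h3.symm⟩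
  have hu : x - 8 ≤ 72 := Int.le_of_dvd (by norm_num) hd
  have hl : -(x - 8) ≤ 72 := Int.le_of_dvd (by norm_num) (neg_dvd.mpr hd)
  obtain ⟨q, rfl⟩ : ∃ q, x = 9 * q + 2 := ⟨x / 9, by omega⟩
  have : q ≤ 8 := by omega
  have : -8 ≤ q := by omega
  interval_cases q <;> omega

theorem no_root_K2 {x Q U : ℤ} (hx0 : x ≠ 0) (hx9 : x % 9 = 2) (hQ9 : Q % 9 = 5) (hU9 : U % 9 = 5)
    (h1 : 5000 * (x + 1) * (Q + 1) = 5049 * x * Q)
    (h2 : 9800 * (x + 1) * (U + 1) = 9801 * x * U) : False := by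
  have h3 : 8 * Q * U + 833 * Q - 825 * U = 0 := by
    have : x * (2376 * Q * U + 247401 * Q - 245025 * U) = 0 := by
      linear_combination (25 * Q + 25) * h2 - (49 * U + 49) * h1
    have h' := (mul_eq_zero.mp this).resolve_left hx0
    exact (mul_eq_zero.mp (show (297 : ℤ) * (8 * Q * U + 833 * Q - 825 * U) = 0 by
      linear_combination h')).resolve_left (by norm_num)
  have h4 : (8 * Q - 825) * (8 * U + 833) = -687225 := by linear_combination 8 * h3
  have hb : (0 ≤ Q ∧ Q ≤ 206) ∨ (-207 ≤ U ∧ U ≤ 0) := by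
    by_cases hQ : 0 ≤ Q ∧ Q ≤ 206
    · exact Or.inl hQ
    · right
      rcases (by omega : Q ≤ -1 ∨ 207 ≤ Q) with h | h <;> constructor <;> nlinarith
  rcases hb with ⟨ha, hb⟩ | ⟨ha, hb⟩
  · obtain ⟨q, rfl⟩ : ∃ q, Q = 9 * q + 5 := ⟨Q / 9, by omega⟩
    have : q ≤ 22 := by omega
    have : 0 ≤ q := by omega
    interval_cases q <;> omega
  · obtain ⟨q, rfl⟩ : ∃ q, U = 9 * q + 5 := ⟨U / 9, by omega⟩
    have : -23 ≤ q := by omega
    have : q ≤ -1 := by omega
    interval_cases q <;> omega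

/-- The moment matrices. -/
def mA : Fin 4 → ℤ := ![11, 16, 7, 5]

/-- The off-diagonal moments. -/
def mB : Fin 4 → ℤ := ![3, 0, 3, 3]

/-- The last moments. -/
def mC : Fin 4 → ℤ := ![1, 2, -1, 1]

/-- The inner products. -/
def gram (k l : Fin 4) : ℤ := if k = l then 3 else if l.val + k.val = 3 then 0 else 1

/-- The data. -/
structure QuadData (ι : Type u) [Fintype ι] [DecidableEq ι] where
  o : ι
  d : ι → ℤ
  v : Fin 4 → ι → ℤ
  a : ι → ℂ
  b : ι → ℂ
  R : ℂ
  R_ne : R ≠ 0
  d_pos : ∀ χ, 0 < d χ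
  d_one : ∀ χ, χ ≠ o → d χ ≠ 1
  v_o : ∀ k, v k o = 0
  dot : ∀ k l, v k ⬝ᵥ v l = gram k l
  v_d : ∀ k, v k ⬝ᵥ d = -1
  v_a : ∀ k, wsum (v k) (fun χ => (d χ : ℂ) * a χ) = 0
  v_b : ∀ k, wsum (v k) (fun χ => (d χ : ℂ) * b χ) = 0
  v_aa : ∀ k, wsum (v k) (fun χ => (d χ : ℂ) * a χ * a χ) = R * mA k
  v_ab : ∀ k, wsum (v k) (fun χ => (d χ : ℂ) * a χ * b χ) = R * mB k
  v_bb : ∀ k, wsum (v k) (fun χ => (d χ : ℂ) * b χ * b χ) = R * mC k
  cong : ∀ χ, χ ≠ o → (9 : ℤ) ∣ d χ + 4 * (2 * v 0 χ + 2 * v 1 χ - v 2 χ - v 3 χ)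

/-- The signed degree. -/
def QuadData.m (X : QuadData ι) (k : Fin 4) (χ : ι) : ℤ := X.v k χ * X.d χ

theorem QuadData.pm (X : QuadData ι) (k : Fin 4) {χ : ι} (h : X.v k χ ≠ 0) :
    X.v k χ = 1 ∨ X.v k χ = -1 := by
  obtain ⟨f, -, hv, hsup⟩ := norm_three_eq_singles (v := X.v k) (by rw [X.dot]; simp [gram])
  obtain ⟨i, rfl⟩ := hsup χ h
  exact hv i

theorem QuadData.form (X : QuadData ι) (k : Fin 4) {χ ψ : ι} (hχ : X.v k χ ≠ 0)
    (hψ : X.v k ψ ≠ 0) :
    (mC k : ℂ) * X.a χ * X.a ψ - (mB k : ℂ) * (X.a χ * X.b ψ + X.a ψ * X.b χ) +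
        (mA k : ℂ) * X.b χ * X.b ψ =
      X.R * ((mA k : ℂ) * mC k - (mB k : ℂ) ^ 2) *
        ((if χ = ψ then 1 / (X.m k χ : ℂ) else 0) + 1) := by
  obtain ⟨f, hinj, -, hsup⟩ := norm_three_eq_singles (v := X.v k) (by rw [X.dot]; simp [gram])
  obtain ⟨i, rfl⟩ := hsup χ hχ
  obtain ⟨j, rfl⟩ := hsup ψ hψ
  have hsum : ∀ w : ι → ℂ, ∑ y, (X.v k y : ℂ) * w y = ∑ i, (X.v k (f i) : ℂ) * w (f i) := by
    intro w
    rw [← Finset.sum_image (f := fun y => (X.v k y : ℂ) * w y) (fun a _ b _ h => hinj h)]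
    refine (Finset.sum_subset (Finset.subset_univ _) fun y _ hy => ?_).symm
    by_contra h
    obtain ⟨i, hi⟩ := hsup y fun e => h (by simp [e])
    exact hy (Finset.mem_image.mpr ⟨i, Finset.mem_univ _, hi⟩)
  have hsum' : ∀ (w : ι → ℂ) (r : ℂ), wsum (X.v k) w = r →
      ∑ i, (X.v k (f i) : ℂ) * w (f i) = r := by
    intro w r h
    rw [← hsum]
    exact h
  have h1 : ∑ i, (X.v k (f i) : ℂ) * (X.d (f i) : ℂ) = -1 := by
    refine hsum' (fun y => (X.d y : ℂ)) _ ?_
    have := congrArg (fun t : ℤ => (t : ℂ)) (X.v_d k)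
    simpa [wsum, dotProduct] using this
  have key := triangle (m := fun i => (X.m k (f i) : ℂ)) (a := fun i => X.a (f i))
    (b := fun i => X.b (f i)) (R := X.R) (A := (mA k : ℂ)) (B := (mB k : ℂ)) (C := (mC k : ℂ))
    (by simpa [QuadData.m] using h1)
    (by simpa [QuadData.m, mul_assoc] using hsum' _ _ (X.v_a k))
    (by simpa [QuadData.m, mul_assoc] using hsum' _ _ (X.v_b k))
    (by simpa [QuadData.m, mul_assoc] using hsum' _ _ (X.v_aa k))
    (by simpa [QuadData.m, mul_assoc] using hsum' _ _ (X.v_ab k))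
    (by simpa [QuadData.m, mul_assoc] using hsum' _ _ (X.v_bb k))
    X.R_ne (by fin_cases k <;> norm_num [mA, mB, mC]) i j
  simpa [hinj.eq_iff] using key

/-- Two vectors with inner product one share exactly one coordinate, with equal entries. -/
theorem QuadData.shared (X : QuadData ι) {k l : Fin 4} (hkl : gram k l = 1) :
    ∃ x, X.v k x ≠ 0 ∧ X.v l x = X.v k x ∧ ∀ y, X.v k y ≠ 0 → X.v l y ≠ 0 → y = x := by
  obtain ⟨f, hf, -, hfs⟩ := norm_three_eq_singles (v := X.v k) (by rw [X.dot]; simp [gram])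
  obtain ⟨g, hg, -, hgs⟩ := norm_three_eq_singles (v := X.v l) (by rw [X.dot]; simp [gram])
  set S := Finset.univ.filter fun y => X.v k y ≠ 0 ∧ X.v l y ≠ 0 with hS
  have hsum : ∑ y ∈ S, X.v k y * X.v l y = 1 := by
    have := X.dot k l
    rw [hkl] at this
    rw [← this, dotProduct]
    refine Finset.sum_subset (Finset.subset_univ _) fun y _ hy => ?_
    simp only [hS, Finset.mem_filter, Finset.mem_univ, true_and, not_and, not_not] at hy
    by_cases h : X.v k y = 0
    · simp [h]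
    · simp [hy h]
  have hpr : ∀ y ∈ S, X.v k y * X.v l y = 1 ∨ X.v k y * X.v l y = -1 := by
    intro y hy
    simp only [hS, Finset.mem_filter, Finset.mem_univ, true_and] at hy
    rcases X.pm k hy.1 with a | a <;> rcases X.pm l hy.2 with b | b <;> simp [a, b]
  have hsub : S ⊆ Finset.univ.image f := fun y hy => by
    obtain ⟨i, hi⟩ := hfs y (Finset.mem_filter.mp hy).2.1
    exact Finset.mem_image.mpr ⟨i, Finset.mem_univ _, hi⟩
  have h3 : (Finset.univ.image f).card = 3 := by
    rw [Finset.card_image_of_injective _ hf]; rfl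
  have hcard : S.card ≤ 3 := h3 ▸ Finset.card_le_card hsub
  have hmem : ∀ y, y ∈ S ↔ X.v k y ≠ 0 ∧ X.v l y ≠ 0 := fun y => by simp [hS]
  rcases (by omega : S.card = 0 ∨ S.card = 1 ∨ S.card = 2 ∨ S.card = 3) with h | h | h | h
  · rw [Finset.card_eq_zero] at h
    simp [h] at hsum
  · obtain ⟨x, hx⟩ := Finset.card_eq_one.mp h
    rw [hx, Finset.sum_singleton] at hsum
    have hx' := (hmem x).mp (by rw [hx]; exact Finset.mem_singleton_self x)
    refine ⟨x, hx'.1, ?_, fun y h1 h2 => by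
      have := (hmem y).mpr ⟨h1, h2⟩
      rwa [hx, Finset.mem_singleton] at this⟩
    rcases X.pm k hx'.1 with a | a <;> rw [a] at hsum ⊢ <;> omega
  · obtain ⟨x, y, hxy, hx⟩ := Finset.card_eq_two.mp h
    rw [hx, Finset.sum_pair hxy] at hsum
    rcases hpr x (by simp [hx]) with a | a <;> rcases hpr y (by simp [hx]) with b | b <;> omega
  · exfalso
    have hSk : S = Finset.univ.image f := Finset.eq_of_subset_of_card_le hsub (by omega)
    have hsub' : S ⊆ Finset.univ.image g := fun y hy => by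
      obtain ⟨i, hi⟩ := hgs y ((hmem y).mp hy).2
      exact Finset.mem_image.mpr ⟨i, Finset.mem_univ _, hi⟩
    have hSl : S = Finset.univ.image g := Finset.eq_of_subset_of_card_le hsub' (by
      rw [Finset.card_image_of_injective _ hg, h]; rfl)
    have hiff : ∀ y, X.v k y ≠ 0 ↔ X.v l y ≠ 0 := by
      intro y
      constructor
      · intro hy
        obtain ⟨i, hi⟩ := hfs y hy
        exact ((hmem y).mp (hSk ▸ Finset.mem_image.mpr ⟨i, Finset.mem_univ _, hi⟩)).2
      · intro hy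
        obtain ⟨i, hi⟩ := hgs y hy
        exact ((hmem y).mp (hSl ▸ Finset.mem_image.mpr ⟨i, Finset.mem_univ _, hi⟩)).1
    have heven : ∀ y, ∃ w, X.v k y - X.v l y = 2 * w := by
      intro y
      by_cases hy : X.v k y = 0
      · have : X.v l y = 0 := by by_contra e; exact (hiff y).mpr e hy
        exact ⟨0, by omega⟩
      · rcases X.pm k hy with a | a <;> rcases X.pm l ((hiff y).mp hy) with b | b <;>
          rw [a, b] <;> first | exact ⟨0, rfl⟩ | exact ⟨1, rfl⟩ | exact ⟨-1, rfl⟩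
    choose w hw using heven
    have e2 : X.v k - X.v l = (2 : ℤ) • w := funext fun y => by simp [hw y]
    have hn : w ⬝ᵥ w = 1 := by
      have := congrArg (fun t => t ⬝ᵥ t) e2
      simp only [sub_dotProduct, dotProduct_sub, smul_dotProduct, dotProduct_smul, X.dot,
        smul_eq_mul] at this
      have hlk : gram l k = 1 := by rw [← hkl]; unfold gram; grind
      simp [gram] at this hkl hlk
      omega
    obtain ⟨x, ε, hε, rfl⟩ := norm_one_eq_single hn
    have := congrArg (fun t => t ⬝ᵥ X.d) e2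
    simp only [sub_dotProduct, X.v_d, smul_dotProduct, single_dotProduct, smul_eq_mul] at this
    have := X.d_pos x
    rcases hε with rfl | rfl <;> omega

theorem eq_two_slopes {a b p q r s : ℂ} (h : (p * a - q * b) * (r * a - s * b) = 0) :
    p * a = q * b ∨ r * a = s * b :=
  (mul_eq_zero.mp h).imp sub_eq_zero.mp sub_eq_zero.mp

/-- The data is inconsistent. -/
theorem QuadData.contradiction (X : QuadData ι) : False := by
  obtain ⟨x, hxA, hxB, ux⟩ := X.shared (k := 0) (l := 1) rfl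
  obtain ⟨q, hqA, hqE, uq⟩ := X.shared (k := 0) (l := 2) rfl
  obtain ⟨w, hwB, hwF, uw⟩ := X.shared (k := 1) (l := 3) rfl
  obtain ⟨t, htE, htF, ut⟩ := X.shared (k := 2) (l := 3) rfl
  have hxB' : X.v 1 x ≠ 0 := hxB ▸ hxA
  have hqE' : X.v 2 q ≠ 0 := hqE ▸ hqA
  have hwF' : X.v 3 w ≠ 0 := hwF ▸ hwB
  have htF' : X.v 3 t ≠ 0 := htF ▸ htE
  have hmA : mA 0 = 11 ∧ mA 1 = 16 ∧ mA 2 = 7 ∧ mA 3 = 5 := ⟨rfl, rfl, rfl, rfl⟩
  have hmB : mB 0 = 3 ∧ mB 1 = 0 ∧ mB 2 = 3 ∧ mB 3 = 3 := ⟨rfl, rfl, rfl, rfl⟩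
  have hmC : mC 0 = 1 ∧ mC 1 = 2 ∧ mC 2 = -1 ∧ mC 3 = 1 := ⟨rfl, rfl, rfl, rfl⟩
  have hR := X.R_ne
  have mne : ∀ k χ, X.v k χ ≠ 0 → (X.m k χ : ℂ) ≠ 0 := fun k χ h =>
    Int.cast_ne_zero.mpr (mul_ne_zero h (X.d_pos χ).ne')
  have hzero : ∀ k χ, X.v k χ ≠ 0 → 1 + (X.m k χ : ℂ) ≠ 0 := by
    intro k χ h e
    have e' : 1 + X.v k χ * X.d χ = 0 := by exact_mod_cast e
    have := X.d_pos χ
    have hne : χ ≠ X.o := fun c => h (c ▸ X.v_o k)
    rcases X.pm k h with a | a <;> rw [a] at e'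
    · omega
    · exact X.d_one χ hne (by omega)
  -- the quadratic equations
  have fxA := X.form 0 hxA hxA
  have fxB := X.form 1 hxB' hxB'
  have fqA := X.form 0 hqA hqA
  have fqE := X.form 2 hqE' hqE'
  have fwB := X.form 1 hwB hwB
  have fwF := X.form 3 hwF' hwF'
  have ftE := X.form 2 htE htE
  have ftF := X.form 3 htF' htF'
  have emx : X.m 1 x = X.m 0 x := by simp only [QuadData.m, hxB]
  have emq : X.m 2 q = X.m 0 q := by simp only [QuadData.m, hqE]
  have emw : X.m 3 w = X.m 1 w := by simp only [QuadData.m, hwF]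
  have emt : X.m 3 t = X.m 2 t := by simp only [QuadData.m, htF]
  rw [emx] at fxB
  rw [emq] at fqE
  rw [emw] at fwF
  rw [emt] at ftF
  simp only [if_true, hmA, hmB, hmC, Int.cast_ofNat, Int.cast_neg, Int.cast_one, Int.cast_zero]
    at fxA fxB fqA fqE fwB fwF ftE ftF
  have ex := eq_two_slopes (a := X.a x) (b := X.b x) (p := 7) (q := 20) (r := 1) (s := 4)
    (by linear_combination (8 : ℂ) * fxA - (1 / 2 : ℂ) * fxB)
  have eq' := eq_two_slopes (a := X.a q) (b := X.b q) (p := 1) (q := 5) (r := 7) (s := 19)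
    (by linear_combination (8 : ℂ) * fqA + fqE)
  have ew := eq_two_slopes (a := X.a w) (b := X.b w) (p := 5) (q := 14) (r := 1) (s := 2)
    (by linear_combination (1 / 2 : ℂ) * fwB + (4 : ℂ) * fwF)
  have et := eq_two_slopes (a := X.a t) (b := X.b t) (p := 1) (q := 1) (r := 5) (s := 13)
    (by linear_combination (-1 : ℂ) * ftE + (4 : ℂ) * ftF)
  -- nonzero second coordinates
  have bad : ∀ (r k : ℂ) (χ : ι) (j : Fin 4), X.v j χ ≠ 0 → k ≠ 0 →
      0 = X.R * r * (1 / (X.m j χ : ℂ) + 1) → r = k → False := by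
    intro r k χ j hj hk h hr
    subst hr
    have h1 : (1 : ℂ) / (X.m j χ : ℂ) + 1 = 0 :=
      (mul_eq_zero.mp h.symm).resolve_left (mul_ne_zero hR hk)
    refine hzero j χ hj ?_
    have := mne j χ hj
    field_simp at h1
    linear_combination h1
  have bx : X.b x ≠ 0 := by
    intro h
    have ha : X.a x = 0 := by
      rcases ex with e | e <;> rw [h, mul_zero] at e <;> simpa using e
    rw [ha, h] at fxA
    exact bad (11 * 1 - 3 ^ 2) 2 x 0 hxA two_ne_zero (by linear_combination fxA) (by norm_num)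
  have bq : X.b q ≠ 0 := by
    intro h
    have ha : X.a q = 0 := by
      rcases eq' with e | e <;> rw [h, mul_zero] at e <;> simpa using e
    rw [ha, h] at fqA
    exact bad (11 * 1 - 3 ^ 2) 2 q 0 hqA two_ne_zero (by linear_combination fqA) (by norm_num)
  have bw : X.b w ≠ 0 := by
    intro h
    have ha : X.a w = 0 := by
      rcases ew with e | e <;> rw [h, mul_zero] at e <;> simpa using e
    rw [ha, h] at fwB
    exact bad (16 * 2 - 0 ^ 2) 32 w 1 hwB (by norm_num) (by linear_combination fwB) (by norm_num)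
  have et' : 5 * X.a t = 13 * X.b t := by
    rcases et with e | e
    · rw [one_mul, one_mul] at e
      rw [e] at ftE
      exact (bad (7 * -1 - 3 ^ 2) (-16) t 2 htE (by norm_num) (by linear_combination ftE)
        (by norm_num)).elim
    · exact e
  have bt : X.b t ≠ 0 := by
    intro h
    have ha : X.a t = 0 := by
      rw [h, mul_zero] at et'
      simpa using et'
    rw [ha, h] at ftE
    exact bad (7 * -1 - 3 ^ 2) (-16) t 2 htE (by norm_num) (by linear_combination ftE) (by norm_num)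
  -- slopes
  have sx : X.a x = 4 * X.b x ∨ X.a x = 20 / 7 * X.b x := by
    rcases ex with e | e
    · exact Or.inr (by linear_combination (1 / 7 : ℂ) * e)
    · exact Or.inl (by linear_combination e)
  have sq : X.a q = 5 * X.b q ∨ X.a q = 19 / 7 * X.b q := by
    rcases eq' with e | e
    · exact Or.inl (by linear_combination e)
    · exact Or.inr (by linear_combination (1 / 7 : ℂ) * e)
  have sw : X.a w = 2 * X.b w ∨ X.a w = 14 / 5 * X.b w := by
    rcases ew with e | e
    · exact Or.inr (by linear_combination (1 / 5 : ℂ) * e)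
    · exact Or.inl (by linear_combination e)
  have st : X.a t = 13 / 5 * X.b t := by linear_combination (1 / 5 : ℂ) * et'
  -- the four shared coordinates are distinct where it matters
  have dis : ∀ {χ ψ : ι} {l r : ℂ}, X.b χ ≠ 0 → l ≠ r → X.a χ = l * X.b χ →
      X.a ψ = r * X.b ψ → χ ≠ ψ := by
    intro χ ψ l r hb hlr h1 h2 e
    subst e
    exact hlr (mul_right_cancel₀ hb (h1.symm.trans h2))
  have hxq : x ≠ q := by
    rcases sx with h1 | h1 <;> rcases sq with h2 | h2 <;> exact dis bx (by norm_num) h1 h2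
  have hxw : x ≠ w := by
    rcases sx with h1 | h1 <;> rcases sw with h2 | h2 <;> exact dis bx (by norm_num) h1 h2
  have hqt : q ≠ t := by
    rcases sq with h1 | h1 <;> exact dis bq (by norm_num) h1 st
  have hwt : w ≠ t := by
    rcases sw with h1 | h1 <;> exact dis bw (by norm_num) h1 st
  -- congruences
  have cong1 : X.m 0 x % 9 = 2 := by
    have h2 : X.v 2 x = 0 := by_contra fun h => hxq (uq x hxA h)
    have h3 : X.v 3 x = 0 := by_contra fun h => hxw (uw x hxB' h)
    have := X.cong x (fun c => hxA (c ▸ X.v_o 0))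
    rw [hxB, h2, h3] at this
    show X.v 0 x * X.d x % 9 = 2
    rcases X.pm 0 hxA with a | a <;> rw [a] at this ⊢ <;> omega
  have cong2 : X.m 0 q % 9 = 5 := by
    have h1 : X.v 1 q = 0 := by_contra fun h => hxq (ux q hqA h).symm
    have h3 : X.v 3 q = 0 := by_contra fun h => hqt (ut q hqE' h)
    have := X.cong q (fun c => hqA (c ▸ X.v_o 0))
    rw [hqE, h1, h3] at this
    show X.v 0 q * X.d q % 9 = 5
    rcases X.pm 0 hqA with a | a <;> rw [a] at this ⊢ <;> omega
  have cong3 : X.m 1 w % 9 = 5 := by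
    have h0 : X.v 0 w = 0 := by_contra fun h => hxw (ux w h hwB).symm
    have h2 : X.v 2 w = 0 := by_contra fun h => hwt (ut w h hwF')
    have := X.cong w (fun c => hwB (c ▸ X.v_o 1))
    rw [hwF, h0, h2] at this
    show X.v 1 w * X.d w % 9 = 5
    rcases X.pm 1 hwB with a | a <;> rw [a] at this ⊢ <;> omega
  -- bilinear equations
  have fxq := X.form 0 hxA hqA
  have fxw := X.form 1 hxB' hwB
  have fqt := X.form 2 hqE' htE
  have fwt := X.form 3 hwF' htF'
  rw [if_neg hxq] at fxq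
  rw [if_neg hxw] at fxw
  rw [if_neg hqt] at fqt
  rw [if_neg hwt] at fwt
  simp only [hmA, hmB, hmC, Int.cast_ofNat, Int.cast_neg, Int.cast_one, Int.cast_zero]
    at fxq fxw fqt fwt
  have mx := mne 0 x hxA
  have mq := mne 0 q hqA
  have mw := mne 1 w hwB
  have mt := mne 2 t htE
  rw [st] at fqt fwt ftE
  rcases sx with h1 | h1 <;> rcases sq with h2 | h2 <;> rcases sw with h3 | h3 <;>
    rw [h1, h2] at fxq <;> rw [h1, h3] at fxw <;> rw [h2] at fqt <;> rw [h3] at fwt
  case inl.inl.inl =>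
    rw [h1] at fxA
    rw [h2] at fqA
    set R := X.R
    set bx' := X.b x
    set bq' := X.b q
    set bt' := X.b t
    field_simp at fxA fqA ftE
    have k3 : 4 * bx' * bq' = 2 * R := by linear_combination fxq
    have k4 : 9 * bt' = 10 * bx' := by
      refine mul_left_cancel₀ hR ?_
      linear_combination (-(5 / 8 : ℂ) * bx') * fqt - (9 * bt') * (1 / 2 : ℂ) * k3
    have hQ : (8 : ℂ) * ((X.m 0 x : ℂ) + 1) * ((X.m 0 q : ℂ) + 1) =
        9 * (X.m 0 x : ℂ) * (X.m 0 q : ℂ) := by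
      refine mul_left_cancel₀ (pow_ne_zero 2 hR) ?_
      grind
    have hT : (81 : ℂ) * (X.m 0 x : ℂ) * (1 + (X.m 2 t : ℂ)) =
        64 * ((X.m 0 x : ℂ) + 1) * (X.m 2 t : ℂ) := by
      refine mul_left_cancel₀ hR ?_
      grind
    exact no_root_K1 cong1 cong2 (by exact_mod_cast hQ) (by exact_mod_cast hT)
  case inr.inr.inr =>
    rw [h1] at fxA
    rw [h2] at fqA
    rw [h3] at fwB
    set R := X.R
    field_simp at fxA fqA fwB
    have k3 : 100 * X.b x * X.b q = 98 * R := by linear_combination 49 * fxq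
    have k4 : X.b x * X.b w = R := by linear_combination (1 / 32 : ℂ) * fxw
    have hQ : (5000 : ℂ) * ((X.m 0 x : ℂ) + 1) * ((X.m 0 q : ℂ) + 1) =
        5049 * (X.m 0 x : ℂ) * (X.m 0 q : ℂ) := by
      refine mul_left_cancel₀ (pow_ne_zero 2 hR) ?_
      grind
    have hU : (9800 : ℂ) * ((X.m 0 x : ℂ) + 1) * ((X.m 1 w : ℂ) + 1) =
        9801 * (X.m 0 x : ℂ) * (X.m 1 w : ℂ) := by
      refine mul_left_cancel₀ (pow_ne_zero 2 hR) ?_
      grind
    exact no_root_K2 (fun e => mx (by simp [e])) cong1 cong2 cong3 (by exact_mod_cast hQ)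
      (by exact_mod_cast hU)
  all_goals
    have hb4 : X.b x * X.b q * (X.b w * X.b t) ≠ 0 :=
      mul_ne_zero (mul_ne_zero bx bq) (mul_ne_zero bw bt)
    grind

end Cfsg.Lib.Recog.NineEight
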