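import Cfsg.Agent.Lib.Recog.NineEight.Embedding
import Cfsg.Agent.Lib.Recog.NineEight.Arith
import Cfsg.Agent.Lib.Char.InvolutionSetSum
import Cfsg.Agent.Lib.Char.Linear

/-!
# Groups with this normaliser have a nontrivial linear character
-/

set_option autoImplicit false
set_option linter.unusedSectionVars false
set_option linter.style.haveILetI false
set_option maxRecDepth 100000
set_option synthInstance.maxSize 2000
set_option synthInstance.maxHeartbeats 200000

namespace Cfsg.Lib.Recog.NineEight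

open Cfsg Cfsg.Lib.Char Matrix
open Cfsg.Lib.Recog.ThreeCubed (wsum wsum_add wsum_single)
open scoped ComplexConjugate

universe u

theorem model_pow_twelve : ∀ x : Model, x ^ 12 = 1 := by decide +kernel

theorem cubic_mem_sets : ∀ x : Model, x ∈ setOne ∨ x ∈ setTwo → x * x = 1 := by decide +kernel

theorem swapRep_facts : swapRep ∈ setOne ∧ centRep ∈ setOne ∧ transRep ∈ setTwo ∧
    (∃ m : Model, m ^ 3 = 1 ∧ m ≠ 1 ∧ m * swapRep = swapRep * m) := by
  decide +kernel

/-- An integer function on the model as a function on a group isomorphic to it. -/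
def pullFn {H : Type u} [Group H] (φ : H ≃* Model) (F : Model → ℤ) : H → ℂ := fun h => (F (φ h) : ℂ)

theorem classInner_pullFn {H : Type u} [Group H] [Fintype H] (φ : H ≃* Model) (F F' : Model → ℤ)
    (n : ℤ) (h : ∑ x, F x * F' x = 72 * n) :
    classInner (pullFn φ F) (pullFn φ F') = (n : ℂ) := by
  have hc : Nat.card H = 72 := by
    rw [Nat.card_congr φ.toEquiv, Nat.card_eq_fintype_card, card_model]
  have hs : ∑ x : H, (F (φ x) : ℂ) * conj ((F' (φ x) : ℂ)) = ((72 * n : ℤ) : ℂ) := by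
    rw [← h, Int.cast_sum, ← φ.toEquiv.sum_comp]
    refine Finset.sum_congr rfl fun x _ => ?_
    simp
  simp only [classInner, pullFn]
  rw [hs, hc]
  push_cast
  ring

theorem isGeneralized_pullFn {H : Type u} [Group H] [Fintype H] (φ : H ≃* Model) :
    ∀ k, IsGeneralizedCharacter H (pullFn φ (fn k)) := by
  have hsgn : ∀ {n : ℕ} (π : Model →* Equiv.Perm (Fin n)),
      IsGeneralizedCharacter H (pullFn φ fun x => (Equiv.Perm.sign (π x) : ℤ)) := fun π =>
    (isIrrCharacter_linear ((Units.map (Int.castRingHom ℂ).toMonoidHom).comp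
      (Equiv.Perm.sign.comp (π.comp φ.toMonoidHom)))).isGeneralized
  have hfix : ∀ {n : ℕ} (π : Model →* Equiv.Perm (Fin n)),
      IsGeneralizedCharacter H (pullFn φ (fixNum π)) := fun π => by
    convert (isCharacter_fixedCount (π.comp φ.toMonoidHom)).isGeneralized using 1
    funext h
    simp [pullFn, fixNum]
    congr!
  have hone : IsGeneralizedCharacter H (pullFn φ fun _ => 1) := by
    convert (isCharacter_one (G := H)).isGeneralized using 1
    funext h
    simp [pullFn]
  have gadd : ∀ F F' : Model → ℤ, IsGeneralizedCharacter H (pullFn φ F) →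
      IsGeneralizedCharacter H (pullFn φ F') → IsGeneralizedCharacter H (pullFn φ (F + F')) :=
    fun F F' h h' => by convert h.add h' using 1; funext x; simp [pullFn]
  have gsub : ∀ F F' : Model → ℤ, IsGeneralizedCharacter H (pullFn φ F) →
      IsGeneralizedCharacter H (pullFn φ F') → IsGeneralizedCharacter H (pullFn φ (F - F')) :=
    fun F F' h h' => by convert h.sub h' using 1; funext x; simp [pullFn]
  have gmul : ∀ F F' : Model → ℤ, IsGeneralizedCharacter H (pullFn φ F) →
      IsGeneralizedCharacter H (pullFn φ F') → IsGeneralizedCharacter H (pullFn φ (F * F')) :=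
    fun F F' h h' => by convert h.mul h' using 1; funext x; simp [pullFn]
  have g2 : IsGeneralizedCharacter H (pullFn φ sgTwo) := hsgn natHom
  have g3 : IsGeneralizedCharacter H (pullFn φ sgBlock) := hsgn twoHom
  have g4 : IsGeneralizedCharacter H (pullFn φ chTwo) := gsub _ _ (hfix fourHom) (hfix twoHom)
  have g5 : IsGeneralizedCharacter H (pullFn φ chFive) := gsub _ _ (hfix natHom) (hfix twoHom)
  have g7 : IsGeneralizedCharacter H (pullFn φ chSeven) :=
    gsub _ _ (gsub _ _ (hfix nineHom) hone) g5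
  intro k
  fin_cases k
  · exact gsub _ _ (gadd _ _ (gadd _ _ hone g3) g4) g5
  · exact gsub _ _ (gadd _ _ (gadd _ _ hone (gmul _ _ g2 g3)) g4) g7
  · exact gadd _ _ (gsub _ _ (gsub _ _ hone g2) g5) (gmul _ _ g7 g2)
  · exact gsub _ _ (gadd _ _ (gsub _ _ hone g2) (gmul _ _ g5 g2)) g7

theorem wsum_mul_left {ι : Type u} [Fintype ι] (c : ι → ℤ) (f : ι → ℂ) (r : ℂ) :
    ∑ χ, (c χ : ℂ) * (r * f χ) = r * wsum c f := by
  simp [wsum, Finset.mul_sum, mul_left_comm]

theorem wsum_sub_mul {ι : Type u} [Fintype ι] (c : ι → ℤ) (f g : ι → ℂ) (r : ℂ) :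
    wsum c (fun χ => f χ - r * g χ) = wsum c f - r * wsum c g := by
  simp [wsum, mul_sub, Finset.sum_sub_distrib, Finset.mul_sum, mul_left_comm]

variable {G : Type u} [Group G] [Finite G] (X : Setting G)

theorem Setting.pgroup_le {Q : Subgroup G} (hQ : IsPGroup 3 Q) (hQN : Q ≤ X.N) :
    Q ≤ (X.M : Subgroup G) := by
  haveI : Fact (Nat.Prime 3) := ⟨Nat.prime_three⟩
  obtain ⟨P, hP⟩ := (hQ.comap_subtype : IsPGroup 3 (Q.subgroupOf X.N)).exists_le_sylow
  haveI : ((X.M.subtype X.M_le_N : Sylow 3 X.N) : Subgroup X.N).Normal := ⟨fun a ha g => by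
    rw [Sylow.coe_subtype, Subgroup.mem_subgroupOf] at ha ⊢
    exact X.conj_mem g.2 ha⟩
  haveI := Sylow.unique_of_normal (X.M.subtype X.M_le_N) inferInstance
  intro y hy
  have h := hP (show (⟨y, hQN hy⟩ : X.N) ∈ Q.subgroupOf X.N from hy)
  rw [Subsingleton.elim P (X.M.subtype X.M_le_N), Sylow.coe_subtype, Subgroup.mem_subgroupOf] at h
  exact h

/-- An element carrying a nonidentity element of `M` into `N` lies in `N`. -/
theorem Setting.mem_N_of_conj {g u : G} (hu : u ∈ (X.M : Subgroup G)) (hu1 : u ≠ 1)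
    (hgu : g * u * g⁻¹ ∈ X.N) : g ∈ X.N := by
  have h3 : (g * u * g⁻¹) ^ 3 = 1 := by rw [conj_pow, X.cube u hu]; group
  have hM : g * u * g⁻¹ ∈ (X.M : Subgroup G) :=
    (X.cube_iff_mem ⟨_, hgu⟩).mpr (Subtype.ext h3)
  have hne : g * u * g⁻¹ ≠ 1 := fun e => hu1 (by
    rw [mul_inv_eq_one, mul_eq_left] at e; exact e)
  set Q : Subgroup G := (X.M : Subgroup G).map (MulAut.conj g).toMonoidHom with hQ
  have hQN : Q ≤ X.N := by
    rintro _ ⟨m, hm, rfl⟩
    refine X.cent_le _ hM hne (Subgroup.mem_centralizer_singleton_iff.mpr ?_)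
    show g * m * g⁻¹ * (g * u * g⁻¹) = g * u * g⁻¹ * (g * m * g⁻¹)
    calc g * m * g⁻¹ * (g * u * g⁻¹) = g * (m * u) * g⁻¹ := by group
      _ = g * (u * m) * g⁻¹ := by rw [X.comm hm hu]
      _ = _ := by group
  have hle : Q ≤ (X.M : Subgroup G) := X.pgroup_le (X.M.isPGroup'.map _) hQN
  have heq : Q = (X.M : Subgroup G) := Subgroup.eq_of_le_of_card_ge hle (by
    rw [hQ, Subgroup.card_map_of_injective (MulAut.conj g).injective])
  rw [Subgroup.mem_normalizer_iff]
  intro h
  constructor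
  · intro hh
    exact hle ⟨h, hh, rfl⟩
  · intro hh
    rw [← heq] at hh
    obtain ⟨m, hm, he⟩ := hh
    have : m = h := mul_left_cancel (mul_right_cancel (show g * m * g⁻¹ = g * h * g⁻¹ from he))
    exact this ▸ hm

variable (φ : X.N ≃* Model)

/-- A standard element of `N`. -/
abbrev Setting.rep (x : Model) : G := ((φ.symm x : X.N) : G)

theorem Setting.rep_mem_M {x : Model} (hx : x ^ 3 = 1) : X.rep φ x ∈ (X.M : Subgroup G) :=
  (X.cube_iff_mem _).mpr (by rw [← map_pow, hx, map_one])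

theorem Setting.rep_comm {x y : Model} (h : x * y = y * x) :
    X.rep φ x * X.rep φ y = X.rep φ y * X.rep φ x := by
  rw [← Subgroup.coe_mul, ← Subgroup.coe_mul, ← map_mul, ← map_mul, h]

theorem Setting.rep_conj (h x : Model) :
    X.rep φ h * X.rep φ x * (X.rep φ h)⁻¹ = X.rep φ (h * x * h⁻¹) := by
  simp [Setting.rep]

/-- A block swap and a transposition are not conjugate. -/
theorem Setting.swap_not_conj : ¬ IsConj (X.rep φ swapRep) (X.rep φ transRep) := by
  classical
  haveI : Fact (Nat.Prime 3) := ⟨Nat.prime_three⟩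
  intro hconj
  obtain ⟨g, hg⟩ := isConj_iff.mp hconj
  obtain ⟨-, -, -, ⟨hd3, hd1⟩, ⟨hs3, hs1⟩, hsd, hts⟩ := rep_orders
  set t1 := X.rep φ doubleRep
  set t2 := X.rep φ singleRep
  set x2 := X.rep φ transRep
  have ht1M : t1 ∈ (X.M : Subgroup G) := X.rep_mem_M φ hd3
  have ht2M : t2 ∈ (X.M : Subgroup G) := X.rep_mem_M φ hs3
  have ne1 : ∀ {x : Model}, x ≠ 1 → X.rep φ x ≠ 1 := fun {x} hx e =>
    hx ((map_eq_one_iff φ.symm φ.symm.injective).mp (Subtype.ext e))
  set K : Subgroup G := Subgroup.centralizer ({x2} : Set G) with hK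
  have ht2K : t2 ∈ K := Subgroup.mem_centralizer_singleton_iff.mpr (X.rep_comm φ hts.symm)
  have hord : orderOf (⟨t2, ht2K⟩ : K) = 3 := orderOf_eq_prime (Subtype.ext (by
    show t2 ^ 3 = 1; exact X.cube _ ht2M)) (fun e => ne1 hs1 (congrArg Subtype.val e))
  obtain ⟨P, hP⟩ := (IsPGroup.of_card (n := 1) (p := 3) (G := Subgroup.zpowers (⟨t2, ht2K⟩ : K))
    (by rw [Nat.card_zpowers, hord, pow_one])).exists_le_sylow
  have ht2P : (⟨t2, ht2K⟩ : K) ∈ (P : Subgroup K) := hP (Subgroup.mem_zpowers _)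
  haveI : Nontrivial ↥(P : Subgroup K) := ⟨⟨_, ht2P⟩, 1, fun e => ne1 hs1
    (congrArg (fun z : ↥(P : Subgroup K) => ((z : K) : G)) e)⟩
  haveI := P.isPGroup'.center_nontrivial
  obtain ⟨c, hc1⟩ := exists_ne (1 : Subgroup.center ↥(P : Subgroup K))
  set cG : G := (((c : ↥(P : Subgroup K)) : K) : G) with hcG
  have hcG1 : cG ≠ 1 := fun e => hc1 (Subtype.ext (Subtype.ext (Subtype.ext e)))
  have hccomm : ∀ y ∈ (P : Subgroup K), cG * (y : G) = (y : G) * cG := fun y hy =>
    congrArg (fun z : ↥(P : Subgroup K) => ((z : K) : G))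
      ((Subgroup.mem_center_iff.mp c.2 ⟨y, hy⟩).symm)
  have hcN : cG ∈ X.N := X.cent_le t2 ht2M (ne1 hs1)
    (Subgroup.mem_centralizer_singleton_iff.mpr (hccomm _ ht2P))
  have hsingle : ∀ y ∈ (X.M : Subgroup G), y * x2 = x2 * y →
      y = 1 ∨ y = t2 ∨ y = t2⁻¹ := by
    intro y hy hyx
    set yn : X.N := ⟨y, X.M_le_N hy⟩
    have h := commute_transRep (φ yn)
      (by rw [← map_pow, (X.cube_iff_mem yn).mp hy, map_one])
      (φ.symm.injective (by
        rw [map_mul, map_mul, φ.symm_apply_apply]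
        exact Subtype.ext hyx))
    rcases h with h | h | h
    · exact Or.inl (congrArg Subtype.val (show yn = 1 by
        rw [← φ.symm_apply_apply yn, h, map_one]))
    · exact Or.inr (Or.inl (congrArg Subtype.val (show yn = φ.symm singleRep by
        rw [← φ.symm_apply_apply yn, h])))
    · refine Or.inr (Or.inr ?_)
      have : yn = (φ.symm singleRep)⁻¹ := by rw [← φ.symm_apply_apply yn, h, map_inv]
      exact congrArg Subtype.val this
  have hcM : cG ∈ (X.M : Subgroup G) := by
    obtain ⟨k, hk⟩ := P.isPGroup' (c : ↥(P : Subgroup K))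
    refine X.pgroup_le (Q := Subgroup.zpowers cG) ?_ (Subgroup.zpowers_le.mpr hcN)
      (Subgroup.mem_zpowers _)
    rintro ⟨y, hy⟩
    obtain ⟨l, rfl⟩ := Subgroup.mem_zpowers_iff.mp hy
    refine ⟨k, Subtype.ext ?_⟩
    show (cG ^ l) ^ (3 ^ k) = 1
    have hk' : cG ^ (3 ^ k) = 1 := by
      have := congrArg (fun z : ↥(P : Subgroup K) => ((z : K) : G)) hk
      simpa [hcG] using this
    rw [← zpow_natCast, ← _root_.zpow_mul, mul_comm, _root_.zpow_mul, zpow_natCast, hk', _root_.one_zpow]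
  have hPN : ∀ y ∈ (P : Subgroup K), (y : G) ∈ X.N := fun y hy =>
    X.cent_le cG hcM hcG1 (Subgroup.mem_centralizer_singleton_iff.mpr (hccomm y hy).symm)
  have hPM : ∀ y ∈ (P : Subgroup K), (y : G) ∈ (X.M : Subgroup G) := by
    intro y hy
    refine X.pgroup_le (Q := (P : Subgroup K).map K.subtype) (P.isPGroup'.map _) ?_ ⟨y, hy, rfl⟩
    rintro _ ⟨z, hz, rfl⟩
    exact hPN z hz
  -- the image of the double cycle
  set u : G := g * t1 * g⁻¹ with hu
  have huK : u ∈ K := by
    rw [hK, Subgroup.mem_centralizer_singleton_iff, hu, ← hg]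
    calc g * t1 * g⁻¹ * (g * X.rep φ swapRep * g⁻¹) = g * (t1 * X.rep φ swapRep) * g⁻¹ := by group
      _ = g * (X.rep φ swapRep * t1) * g⁻¹ := by rw [← X.rep_comm φ hsd]
      _ = _ := by group
  have hu1 : u ≠ 1 := fun e => ne1 hd1 (by rw [hu, mul_inv_eq_one, mul_eq_left] at e; exact e)
  obtain ⟨P', hP'⟩ := (IsPGroup.of_card (n := 1) (p := 3) (G := Subgroup.zpowers (⟨u, huK⟩ : K))
    (by rw [Nat.card_zpowers, pow_one, orderOf_eq_prime (Subtype.ext (show u ^ 3 = 1 by
      rw [hu, conj_pow, X.cube _ ht1M]; group)) (fun e => hu1 (congrArg Subtype.val e))])).exists_le_sylow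
  obtain ⟨k, hk⟩ := MulAction.exists_smul_eq K P' P
  have hku : k * ⟨u, huK⟩ * k⁻¹ ∈ (P : Subgroup K) := by
    rw [← hk]
    exact Subgroup.mem_map.mpr ⟨_, hP' (Subgroup.mem_zpowers _), rfl⟩
  have hcomm : (k : G) * u * (k : G)⁻¹ * x2 = x2 * ((k : G) * u * (k : G)⁻¹) :=
    Subgroup.mem_centralizer_singleton_iff.mp (k * ⟨u, huK⟩ * k⁻¹).2
  have hcases := hsingle _ (hPM _ hku) hcomm
  set h : G := (k : G) * g with hh
  have he : (k : G) * u * (k : G)⁻¹ = h * t1 * h⁻¹ := by rw [hu, hh]; group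
  change (k : G) * u * (k : G)⁻¹ = 1 ∨ (k : G) * u * (k : G)⁻¹ = t2 ∨
    (k : G) * u * (k : G)⁻¹ = t2⁻¹ at hcases
  rw [he] at hcases
  have hhN : h ∈ X.N := by
    refine X.mem_N_of_conj ht1M (ne1 hd1) ?_
    rcases hcases with e | e | e <;> rw [e]
    · exact one_mem _
    · exact X.M_le_N ht2M
    · exact inv_mem (X.M_le_N ht2M)
  set hn : X.N := ⟨h, hhN⟩
  have hval : h * t1 * h⁻¹ = X.rep φ (φ hn * doubleRep * (φ hn)⁻¹) := by
    rw [← X.rep_conj φ, Setting.rep, φ.symm_apply_apply]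
  rw [hval] at hcases
  have hinj : ∀ {x y : Model}, X.rep φ x = X.rep φ y → x = y := fun e =>
    φ.symm.injective (Subtype.ext e)
  rcases hcases with e | e | e
  · exact hd1 (by
      have := hinj (e.trans (by simp [Setting.rep] : (1 : G) = X.rep φ 1))
      rwa [mul_inv_eq_one, mul_eq_left] at this)
  · exact (double_not_conj _).1 (hinj e)
  · exact (double_not_conj _).2 (hinj (e.trans (by simp [t2, Setting.rep])))

/-- An isomorphism with the model for which the transpositions fuse with no other involution. -/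
theorem Setting.exists_good : ∃ φ : X.N ≃* Model,
    ¬ IsConj (X.rep φ swapRep) (X.rep φ transRep) ∧
    ¬ IsConj (X.rep φ centRep) (X.rep φ transRep) := by
  classical
  haveI : Fact (Nat.Prime 2) := ⟨Nat.prime_two⟩
  -- a first involution with fixed points in `M`
  obtain ⟨S⟩ : Nonempty (Sylow 2 X.N) := inferInstance
  obtain ⟨e⟩ := X.dihedral S
  obtain ⟨h2one, h2sq, h2c⟩ := dihedral_rotation
  set z : ↥(S : Subgroup X.N) := e.symm (DihedralGroup.r 1 * DihedralGroup.r 1) with hz
  set w : ↥(S : Subgroup X.N) := e.symm (DihedralGroup.sr 0) with hw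
  have hsr : (DihedralGroup.sr 0 : DihedralGroup 4) * DihedralGroup.sr 0 = 1 ∧
      (DihedralGroup.sr 0 : DihedralGroup 4) ≠ 1 ∧
      (DihedralGroup.sr 0 : DihedralGroup 4) ≠ DihedralGroup.r 1 * DihedralGroup.r 1 := by
    decide +kernel
  have hww : w * w = 1 := by rw [hw, ← map_mul, hsr.1, map_one]
  have hw1 : w ≠ 1 := fun h => hsr.2.1 ((map_eq_one_iff e.symm e.symm.injective).mp h)
  have hzz : z * z = 1 := by rw [hz, ← map_mul, h2sq, map_one]
  have hz1 : z ≠ 1 := fun h => h2one ((map_eq_one_iff e.symm e.symm.injective).mp h)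
  obtain ⟨-, -, hinv⟩ := X.central_inverts S z.2 (congrArg Subtype.val hzz)
    (fun h => hz1 (Subtype.ext h)) (fun y hy => congrArg Subtype.val
      (show z * ⟨y, hy⟩ = ⟨y, hy⟩ * z by
        rw [hz, ← e.symm_apply_apply ⟨y, hy⟩, ← map_mul, ← map_mul, h2c]))
  have hwfix : X.fixSub ((w : X.N) : G) ≠ ⊥ := by
    intro hb
    have hwinv : ∀ m ∈ (X.M : Subgroup G),
        ((w : X.N) : G) * m * ((w : X.N) : G)⁻¹ = m⁻¹ := by
      intro m hm
      have h := (X.invol_decompose (w : X.N).2
        (congrArg (fun t : ↥(S : Subgroup X.N) => ((t : X.N) : G)) hww) hm).1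
      rw [hb, Subgroup.mem_bot] at h
      exact eq_inv_of_mul_eq_one_right h
    set p : G := ((w : X.N) : G) * ((z : X.N) : G) with hp
    have hpM : p ∈ (X.M : Subgroup G) := by
      refine X.mem_of_centralizes fun m hm => ?_
      refine mul_inv_eq_iff_eq_mul.mp ?_
      rw [hp, show ((w : X.N) : G) * ((z : X.N) : G) * m * (((w : X.N) : G) * ((z : X.N) : G))⁻¹ =
        ((w : X.N) : G) * (((z : X.N) : G) * m * ((z : X.N) : G)⁻¹) * ((w : X.N) : G)⁻¹ by group,
        hinv m hm, hwinv _ (inv_mem hm), inv_inv]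
    have hp2 : p * p = 1 := congrArg (fun t : ↥(S : Subgroup X.N) => ((t : X.N) : G))
      (show w * z * (w * z) = 1 by
        have hcomm : z * w = w * z := by rw [hz, hw, ← map_mul, ← map_mul, h2c]
        rw [mul_assoc, ← mul_assoc z, hcomm, ← mul_assoc, ← mul_assoc, hww, one_mul, hzz])
    have hp1 : p = 1 := X.inv_fix_trivial hpM (inv_eq_of_mul_eq_one_right hp2)
    refine hsr.2.2 (e.symm.injective ?_)
    rw [← hw, ← hz]
    have hwz : w * z = 1 := Subtype.ext (Subtype.ext hp1)
    rw [← inv_eq_of_mul_eq_one_right hwz]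
    exact (inv_eq_of_mul_eq_one_right hww).symm
  obtain ⟨φ0, -⟩ := X.exists_embedding (w : X.N) (congrArg Subtype.val hww)
    (fun h => hw1 (Subtype.ext h)) hwfix
  by_cases hgood : IsConj (X.rep φ0 centRep) (X.rep φ0 transRep)
  swap
  · exact ⟨φ0, X.swap_not_conj φ0, hgood⟩
  have hbad : ¬ IsConj (X.rep φ0 centRep) (X.rep φ0 swapRep) := fun h =>
    X.swap_not_conj φ0 (h.symm.trans hgood)
  obtain ⟨⟨hs2, hs1⟩, -, ⟨hc2, hc1⟩, -, -, -, -⟩ := rep_orders
  obtain ⟨-, -, -, m, hm3, hm1, hms⟩ := swapRep_facts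
  obtain ⟨φ1, hφ1⟩ := X.exists_embedding (φ0.symm swapRep)
    (by rw [← map_mul, hs2, map_one])
    (fun h => hs1 ((map_eq_one_iff φ0.symm φ0.symm.injective).mp h))
    (by
      intro hb
      have hmem : X.rep φ0 m ∈ X.fixSub (X.rep φ0 swapRep) :=
        X.mem_fixSub.mpr ⟨X.rep_mem_M φ0 hm3, X.rep_comm φ0 hms⟩
      rw [hb, Subgroup.mem_bot] at hmem
      exact hm1 ((map_eq_one_iff φ0.symm φ0.symm.injective).mp (Subtype.ext hmem)))
  refine ⟨φ1, X.swap_not_conj φ1, fun hconj => hbad ?_⟩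
  obtain ⟨h, hh⟩ := (mem_setTwo_iff _).mp hφ1
  have e1 : IsConj (X.rep φ1 transRep) (X.rep φ0 swapRep) := by
    refine isConj_iff.mpr ⟨X.rep φ1 h, ?_⟩
    rw [X.rep_conj φ1, hh, Setting.rep, φ1.symm_apply_apply]
  -- the inverting classes agree
  set cn : X.N := φ0.symm centRep with hcn
  obtain ⟨h', hh'⟩ := cent_class (φ1 cn) (by rw [← map_mul, hcn, ← map_mul, hc2, map_one, map_one])
    (fun e => hc1 ((map_eq_one_iff φ0.symm φ0.symm.injective).mp
      ((map_eq_one_iff φ1 φ1.injective).mp e)))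
    (by
      intro m' hm'
      have hk : (φ0 (φ1.symm m')) ^ 3 = 1 := by rw [← map_pow, ← map_pow, hm', map_one, map_one]
      have := congrArg (fun x => φ1 (φ0.symm x)) (centRep_inverts _ hk)
      simpa [hcn] using this)
  have e2 : IsConj (X.rep φ1 centRep) (X.rep φ0 centRep) := by
    refine isConj_iff.mpr ⟨X.rep φ1 h', ?_⟩
    rw [X.rep_conj φ1, hh', Setting.rep, φ1.symm_apply_apply]
  exact e2.symm.trans (hconj.trans e1)

set_option maxHeartbeats 1600000 in
/-- There is a nontrivial linear character. -/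
theorem Setting.exists_linear [Fintype G] (X : Setting G) :
    ∃ χ : IrrCharacter G, (χ : G → ℂ) ≠ (fun _ => 1) ∧ (χ : G → ℂ) 1 = 1 := by
  classical
  obtain ⟨φ, hn1, hn3⟩ := X.exists_good
  let N := X.N
  haveI : Fintype N := Fintype.ofFinite _
  obtain ⟨-, ⟨ht2, ht1⟩, -⟩ := rep_orders
  obtain ⟨hswap, hcent, -⟩ := swapRep_facts
  set I : Fin 2 → Finset G :=
    ![Finset.univ.filter fun x => IsConj (X.rep φ swapRep) x ∨ IsConj (X.rep φ centRep) x,
      Finset.univ.filter fun x => IsConj (X.rep φ transRep) x] with hI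
  have hI0 : ∀ x, x ∈ I 0 ↔ (IsConj (X.rep φ swapRep) x ∨ IsConj (X.rep φ centRep) x) := by
    intro x
    show x ∈ Finset.filter _ _ ↔ _
    rw [Finset.mem_filter]
    exact ⟨And.right, fun h => ⟨Finset.mem_univ _, h⟩⟩
  have hI1 : ∀ x, x ∈ I 1 ↔ IsConj (X.rep φ transRep) x := by
    intro x
    show x ∈ Finset.filter _ _ ↔ _
    rw [Finset.mem_filter]
    exact ⟨And.right, fun h => ⟨Finset.mem_univ _, h⟩⟩
  have two : ∀ a : Fin 2, a = 0 ∨ a = 1 := by decide
  have hcl : ∀ a, ConjClosed (I a) := by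
    intro a k x hx
    have hk : IsConj x (k * x * k⁻¹) := isConj_iff.mpr ⟨k, rfl⟩
    rcases two a with rfl | rfl
    · rw [hI0] at hx ⊢
      exact hx.imp (fun h => h.trans hk) (fun h => h.trans hk)
    · rw [hI1] at hx ⊢
      exact hx.trans hk
  set sets : Fin 2 → Finset Model := ![setOne, setTwo] with hsets
  have conjN : ∀ {x y : Model}, (∃ h, h * x * h⁻¹ = y) → IsConj (X.rep φ x) (X.rep φ y) :=
    fun {x y} ⟨h, hh⟩ => isConj_iff.mpr ⟨X.rep φ h, by rw [X.rep_conj φ, hh]⟩
  have repφ : ∀ x : N, X.rep φ (φ x) = x := fun x => by simp [Setting.rep]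
  have sq1 : ∀ {x : Model}, x * x = 1 → X.rep φ x * X.rep φ x = 1 := fun {x} h => by
    rw [← Subgroup.coe_mul, ← map_mul, h, map_one, Subgroup.coe_one]
  have hinvol : ∀ a, ∀ x ∈ I a, x * x = 1 := by
    have key : ∀ {r x : G}, r * r = 1 → IsConj r x → x * x = 1 := fun {r x} hr h => by
      obtain ⟨k, rfl⟩ := isConj_iff.mp h
      calc k * r * k⁻¹ * (k * r * k⁻¹) = k * (r * r) * k⁻¹ := by group
        _ = 1 := by rw [hr]; group
    intro a x hx
    rcases two a with rfl | rfl
    · rw [hI0] at hx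
      exact hx.elim (key (sq1 (cubic_mem_sets _ (Or.inl hswap))))
        (key (sq1 (cubic_mem_sets _ (Or.inl hcent))))
    · rw [hI1] at hx
      exact key (sq1 ht2) hx
  have hne1 : ∀ a, (1 : G) ∉ I a := by
    have key : ∀ {x : Model}, x ≠ 1 → ¬ IsConj (X.rep φ x) 1 := fun {x} hx h =>
      hx ((map_eq_one_iff φ.symm φ.symm.injective).mp (Subtype.ext (isConj_one_left.mp h)))
    intro a hx
    rcases two a with rfl | rfl
    · rw [hI0] at hx
      exact hx.elim (key fun e => one_notMem.1 (e ▸ hswap)) (key fun e => one_notMem.1 (e ▸ hcent))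
    · rw [hI1] at hx
      exact key ht1 hx
  have hmem : ∀ a, ∀ x : N, (x : G) ∈ I a ↔ φ x ∈ sets a := by
    have mk1 : ∀ x : N, φ x ∈ setOne → (x : G) ∈ I 0 := by
      intro x hx
      have hx1 : φ x ≠ 1 := fun e => one_notMem.1 (e ▸ hx)
      rw [← repφ x]
      exact (hI0 _).mpr (((mem_setOne_iff _ hx1).mp hx).imp conjN conjN)
    have mk2 : ∀ x : N, φ x ∈ setTwo → (x : G) ∈ I 1 := by
      intro x hx
      rw [← repφ x]
      exact (hI1 _).mpr (conjN ((mem_setTwo_iff _).mp hx))
    have disj : ∀ g, g ∈ I 0 → g ∈ I 1 → False := by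
      intro g h0 h1
      rw [hI0] at h0
      rw [hI1] at h1
      rcases h0 with h | h
      · exact hn1 (h.trans h1.symm)
      · exact hn3 (h.trans h1.symm)
    have cls : ∀ a, ∀ x : N, (x : G) ∈ I a → φ x ∈ setOne ∨ φ x ∈ setTwo := by
      intro a x hx
      refine involution_classes _ ?_ ?_
      · rw [← map_mul, show x * x = 1 from Subtype.ext (hinvol a _ hx), map_one]
      · intro e
        rw [(map_eq_one_iff φ φ.injective).mp e] at hx
        exact hne1 a hx
    intro a x
    rcases two a with rfl | rfl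
    · exact ⟨fun hx => (cls 0 x hx).resolve_right fun h => disj _ hx (mk2 x h), mk1 x⟩
    · exact ⟨fun hx => (cls 1 x hx).resolve_left fun h => disj _ (mk1 x h) hx, mk2 x⟩
  -- the functions
  have hpow : ∀ h : N, ∀ k, fn k (φ h) ≠ 0 →
      ((h ^ 4 : N) : G) ∈ (X.M : Subgroup G) ∧ ((h ^ 4 : N) : G) ≠ 1 := by
    intro h k hk
    refine ⟨(X.cube_iff_mem _).mpr (φ.injective ?_), fun e => hk (fn_vanish _ ?_ k)⟩
    · rw [map_pow, map_pow, ← pow_mul, map_one]
      exact model_pow_twelve _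
    · rw [← map_pow, show h ^ 4 = 1 from Subtype.ext e, map_one]
  have hgen := isGeneralized_pullFn φ
  choose c hc using fun k => (fun χ : IrrCharacter G =>
    (isGeneralizedCharacter_indFun N (hgen k)).exists_int_classInner χ.2.isGeneralized)
  set o : IrrCharacter G := ⟨_, isIrrCharacter_one⟩ with ho
  have hone : ∀ k, c k o = 1 := by
    intro k
    have h1 := hc k o
    rw [classInner_indFun N _ o.2.isClassFunction] at h1
    have h2 := classInner_pullFn φ (fn k) (fun _ => 1) 1 (by simpa using sum_fn k)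
    have h3 : (fun x : N => (o : G → ℂ) x) = pullFn φ fun _ => 1 := by
      funext x; simp [ho, pullFn]
    rw [h3, h2] at h1
    exact_mod_cast h1.symm
  have hv0 : ∀ k, ∀ h : N, (φ h) ^ 4 = 1 → pullFn φ (fn k) h = 0 := fun k h hh => by
    simp [pullFn, fn_vanish _ hh k]
  have hdot : ∀ k l, c k ⬝ᵥ c l =
      if k = l then 4 else if l.val + k.val = 3 then 1 else 2 := by
    intro k l
    have hT : ∀ j, ∀ y : N, (y : G) ∉ {t : G | ∃ h : N, (h : G) = t ∧ (φ h) ^ 4 ≠ 1} →
        pullFn φ (fn j) y = 0 := fun j y hy =>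
      hv0 j y (by_contra fun h => hy ⟨y, rfl, h⟩)
    have h1 := classInner_indFun_TI N {t : G | ∃ h : N, (h : G) = t ∧ (φ h) ^ 4 ≠ 1}
      (by
        rintro x hx _ ⟨t, rfl, ht⟩ - ⟨t', ht', -⟩
        refine hx (X.mem_N_of_conj (u := ((t ^ 4 : N) : G))
          ((X.cube_iff_mem _).mpr (φ.injective (by
            rw [map_pow, map_pow, ← pow_mul, map_one]; exact model_pow_twelve _)))
          (fun e => ht (by rw [← map_pow, show t ^ 4 = 1 from Subtype.ext e, map_one])) ?_)
        rw [Subgroup.coe_pow, ← conj_pow, ← ht']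
        exact pow_mem t'.2 4)
      (hgen l).isClassFunction (hT k) (hT l) (hv0 k 1 (by simp))
    rw [classInner_pullFn φ (fn k) (fn l) _ (inner_fn k l),
      classInner_eq_sum (isClassFunction_indFun N _)] at h1
    simp only [hc, map_intCast] at h1
    refine Int.cast_inj (α := ℂ) |>.mp ?_
    rw [← h1]
    simp [dotProduct]
  choose deg hdegpos hdeg using fun χ : IrrCharacter G => χ.2.exists_degree
  let wd : IrrCharacter G → ℂ := fun χ => (χ : G → ℂ) 1
  let wS : Fin 2 → IrrCharacter G → ℂ := fun a χ => ∑ x ∈ I a, (χ : G → ℂ) x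
  have hwd : ∀ χ, wd χ ≠ 0 := fun χ => χ.2.apply_one_ne_zero
  have hw : ∀ k (w : IrrCharacter G → ℂ), wsum (c k) w =
      ∑ χ : IrrCharacter G, classInner (indFun N (pullFn φ (fn k))) (χ : G → ℂ) * w χ := by
    intro k w
    simp [wsum, hc]
  have hdeg0 : ∀ k, wsum (c k) wd = 0 := by
    intro k
    rw [hw k wd]
    have := congrFun (eq_sum_classInner (isClassFunction_indFun N (pullFn φ (fn k)))) 1
    simp only [Finset.sum_apply, Pi.smul_apply, smul_eq_mul] at this
    rw [← this, indFun_apply_one, hv0 k 1 (by simp), mul_zero]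
  have hS0 : ∀ k a, wsum (c k) (wS a) = 0 := by
    intro k a
    rw [hw k, ← sum_finset_classInner_eq (I a) (isClassFunction_indFun N _)]
    refine Finset.sum_eq_zero fun x hx => indFun_invol_eq_zero N (fun h hh => hv0 k h ?_)
      (hinvol a x hx)
    rw [show (4 : ℕ) = 2 + 2 from rfl, pow_add, pow_two, ← map_mul,
      show h * h = 1 from Subtype.ext hh, map_one, one_mul]
  have hQ : ∀ k a b, wsum (c k) (fun χ => wS a χ * wS b χ / wd χ) =
      (N.index : ℂ) * (pairSum (sets a) (sets b) k : ℂ) := by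
    intro k a b
    rw [hw k, ← sum_conjClosed_pair_eq (hcl b) (isClassFunction_indFun N _),
      sum_pair_indFun_local N (hcl a) (hcl b) (fun x hx y hy h hxy hne => ?_)]
    · congr 1
      simp only [pairSum]
      push_cast
      refine Finset.sum_equiv φ.toEquiv (fun x => by simpa using hmem a x) fun x _ => ?_
      refine Finset.sum_equiv φ.toEquiv (fun y => by simpa using hmem b y) fun y _ => ?_
      simp [pullFn]
    · have hk : fn k (φ h) ≠ 0 := fun e => hne (by simp [pullFn, e])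
      obtain ⟨hM, h1⟩ := hpow h k hk
      refine X.mem_N_of_conj hM h1 ?_
      have hinv : x * (h : G) * x⁻¹ = (h : G)⁻¹ := by
        rw [← hxy, _root_.mul_inv_rev, inv_eq_of_mul_eq_one_right (hinvol a x hx),
          inv_eq_of_mul_eq_one_right (hinvol b y hy), ← mul_assoc, hinvol a x hx, one_mul]
      rw [Subgroup.coe_pow, ← conj_pow, hinv]
      exact pow_mem (inv_mem h.2) 4
  -- the data
  by_contra hno
  push Not at hno
  let v : Fin 4 → IrrCharacter G → ℤ := fun k => c k - Pi.single o 1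
  have wsv : ∀ k w, wsum (v k) w = wsum (c k) w - w o := by
    intro k w
    simp [v, wsum, sub_mul, Finset.sum_sub_distrib, Pi.single_apply]
  have dego : deg o = 1 := by
    have := hdeg o
    simp only [ho] at this
    exact_mod_cast this.symm
  have hcdd : ∀ k, c k ⬝ᵥ (fun χ => (deg χ : ℤ)) = 0 := by
    intro k
    refine Int.cast_inj (α := ℂ) |>.mp ?_
    rw [Int.cast_zero, ← hdeg0 k]
    simp [wsum, dotProduct, wd, hdeg]
  have wdo : wd o = 1 := by simp [wd, ho]
  set pa : Fin 2 → IrrCharacter G → ℂ := fun a χ => wS a χ / wd χ - wS a o with hpa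
  have hcast : ∀ χ : IrrCharacter G, (((deg χ : ℤ)) : ℂ) = wd χ := fun χ => by simp [wd, hdeg]
  have hva : ∀ k a, wsum (v k) (fun χ => ((deg χ : ℤ) : ℂ) * pa a χ) = 0 := by
    intro k a
    have e : (fun χ => ((deg χ : ℤ) : ℂ) * pa a χ) = fun χ => wS a χ - wS a o * wd χ := by
      funext χ
      rw [hcast, hpa]
      field_simp [hwd χ]
    rw [e, wsv]
    have : wsum (c k) (fun χ => wS a χ - wS a o * wd χ) =
        wsum (c k) (wS a) - wS a o * wsum (c k) wd := by
      exact wsum_sub_mul (c k) (wS a) wd (wS a o)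
    rw [this, hS0, hdeg0, wdo]; ring
  have hvab : ∀ k a b, wsum (v k) (fun χ => ((deg χ : ℤ) : ℂ) * pa a χ * pa b χ) =
      (N.index : ℂ) * (pairSum (sets a) (sets b) k : ℂ) := by
    intro k a b
    have e : (fun χ => ((deg χ : ℤ) : ℂ) * pa a χ * pa b χ) = fun χ => wS a χ * wS b χ / wd χ -
        wS b o * wS a χ - wS a o * wS b χ + wS a o * wS b o * wd χ := by
      funext χ
      rw [hcast, hpa]
      field_simp [hwd χ]
      ring
    rw [e, wsv, wdo, ← hQ k a b]
    simp only [wsum, mul_sub, mul_add, Finset.sum_sub_distrib, Finset.sum_add_distrib]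
    have e1 : ∀ (r : ℂ) (f : IrrCharacter G → ℂ),
        ∑ χ, (c k χ : ℂ) * (r * f χ) = r * wsum (c k) f := fun r f => wsum_mul_left (c k) f r
    rw [e1, e1, e1, hS0, hS0, hdeg0]
    ring
  obtain ⟨p1, p2, p3⟩ := pair_sums
  refine QuadData.contradiction (ι := IrrCharacter G)
    { o := o
      d := fun χ => (deg χ : ℤ)
      v := v
      a := pa 0
      b := pa 1
      R := (N.index : ℂ) * 36
      R_ne := mul_ne_zero (Nat.cast_ne_zero.mpr Subgroup.FiniteIndex.index_ne_zero) (by norm_num)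
      d_pos := fun χ => by exact_mod_cast hdegpos χ
      d_one := fun χ hχ h => hno χ (fun e => hχ (Subtype.ext e)) (by
        rw [hdeg]; exact_mod_cast h)
      v_o := fun k => by simp [v, hone]
      dot := fun k l => by
        have := hone k
        have := hone l
        simp only [v, sub_dotProduct, dotProduct_sub, single_dotProduct, dotProduct_single,
          hdot, gram, one_mul, mul_one, Pi.single_eq_same]
        split_ifs <;> simp_all
      v_d := fun k => by
        simp only [v, sub_dotProduct, single_dotProduct, hcdd, dego]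
        norm_num
      v_a := fun k => hva k 0
      v_b := fun k => hva k 1
      v_aa := fun k => by
        rw [hvab k 0 0, show pairSum (sets 0) (sets 0) k = 36 * mA k from p1 k]
        push_cast; ring
      v_ab := fun k => by
        rw [hvab k 0 1, show pairSum (sets 0) (sets 1) k = 36 * mB k from p2 k]
        push_cast; ring
      v_bb := fun k => by
        rw [hvab k 1 1, show pairSum (sets 1) (sets 1) k = 36 * mC k from p3 k]
        push_cast; ring
      cong := ?_ }
  intro χ hχ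
  let f : (↥(X.M : Subgroup G)) → ℂ := fun m => (χ : G → ℂ) m
  obtain ⟨n, hn⟩ := ((χ.2.isCharacter.comp (X.M : Subgroup G).subtype).isGeneralized
    |>.exists_int_classInner (isCharacter_one (G := ↥(X.M : Subgroup G))).isGeneralized :
      ∃ n : ℤ, classInner f (fun _ => 1) = n)
  rw [classInner_one_right, X.card_M] at hn
  have hsumM : ∑ m, f m = 9 * (n : ℂ) := by
    rw [← hn]; push_cast; ring_nf; rfl
  have hv : ∀ k, v k χ = c k χ := fun k => by simp [v, Pi.single_apply, hχ]
  simp only [hv]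
  refine ⟨n, ?_⟩
  refine Int.cast_inj (α := ℂ) |>.mp ?_
  have hval : ∀ k, (c k χ : ℂ) =
      (72 : ℂ)⁻¹ * ∑ h : N, (fn k (φ h) : ℂ) * conj ((χ : G → ℂ) h) := by
    intro k
    rw [← hc k χ, classInner_indFun N _ χ.2.isClassFunction]
    simp only [classInner, pullFn]
    congr 2
    rw [X.card_N]
    norm_num
  have hcomb : ∑ h : N, ((2 * funA (φ h) + 2 * funB (φ h) - funE (φ h) - funF (φ h) : ℤ) : ℂ) *
      conj ((χ : G → ℂ) h) = 18 * (conj (∑ m, f m) - conj ((χ : G → ℂ) 1)) := by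
    simp only [combination, Int.cast_ite, Int.cast_ofNat, Int.cast_zero, ite_mul, zero_mul]
    rw [← Finset.sum_filter, ← Finset.mul_sum]
    congr 1
    rw [← map_sub, ← map_sum]
    congr 1
    rw [eq_sub_iff_add_eq]
    have h1 : (χ : G → ℂ) 1 = f 1 := rfl
    rw [h1, ← Finset.sum_erase_add Finset.univ f (Finset.mem_univ 1)]
    congr 1
    refine Finset.sum_nbij' (fun h => if hh : (h : G) ∈ (X.M : Subgroup G) then ⟨h, hh⟩ else 1)
      (fun m => ⟨m, X.M_le_N m.2⟩) ?_ ?_ ?_ ?_ ?_
    all_goals simp only [Finset.mem_filter, Finset.mem_univ, true_and, Finset.mem_erase,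
      Finset.mem_coe]
    · intro h hh
      have hM : (h : G) ∈ (X.M : Subgroup G) := (X.cube_iff_mem h).mpr
        (φ.injective (by rw [map_pow, hh.1, map_one]))
      rw [dif_pos hM]
      exact ⟨fun e => hh.2 (by
        rw [show h = 1 from Subtype.ext (congrArg (fun z : ↥(X.M : Subgroup G) => (z : G)) e),
          map_one]), trivial⟩
    · intro m hm
      refine ⟨by rw [← map_pow, (X.cube_iff_mem _).mp m.2, map_one], fun e => hm.1 ?_⟩
      have := (map_eq_one_iff φ φ.injective).mp e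
      exact Subtype.ext (congrArg (fun z : N => (z : G)) this)
    · intro h hh
      have hM : (h : G) ∈ (X.M : Subgroup G) := (X.cube_iff_mem h).mpr
        (φ.injective (by rw [map_pow, hh.1, map_one]))
      simp [dif_pos hM]
    · intro m _
      simp [dif_pos m.2]
    · intro h hh
      have hM : (h : G) ∈ (X.M : Subgroup G) := (X.cube_iff_mem h).mpr
        (φ.injective (by rw [map_pow, hh.1, map_one]))
      simp [dif_pos hM, f]
  have hconj : conj (∑ m, f m) = 9 * (n : ℂ) := by simp [hsumM, Complex.conj_ofNat]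
  have hconj1 : conj ((χ : G → ℂ) 1) = (deg χ : ℂ) := by rw [hdeg]; simp
  rw [hconj, hconj1] at hcomb
  have key : (2 : ℂ) * (c 0 χ : ℂ) + 2 * (c 1 χ : ℂ) - (c 2 χ : ℂ) - (c 3 χ : ℂ) =
      (72 : ℂ)⁻¹ * (18 * (9 * (n : ℂ) - (deg χ : ℂ))) := by
    rw [hval, hval, hval, hval, ← hcomb]
    simp only [fn, Matrix.cons_val_zero, Matrix.cons_val_one, Matrix.cons_val, Finset.mul_sum,
      ← Finset.sum_add_distrib, ← Finset.sum_sub_distrib]
    refine Finset.sum_congr rfl fun h _ => ?_
    push_cast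
    ring
  push_cast
  linear_combination 4 * key

end Cfsg.Lib.Recog.NineEight
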