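import Cfsg.Agent.Lib.Recog.NineEight.Structure
import Mathlib.GroupTheory.GroupAction.Quotient

/-!
# The normaliser is the stabiliser of a partition of six points into two halves
-/

set_option autoImplicit false
set_option linter.unusedSectionVars false
set_option linter.style.haveILetI false
set_option maxRecDepth 100000
set_option synthInstance.maxSize 2000
set_option synthInstance.maxHeartbeats 200000

namespace Cfsg.Lib.Recog.NineEight

open Equiv

universe u

theorem single_fixed_blocks : ∀ m : Model, m ^ 3 = 1 → m ≠ 1 → (∃ i, m.1 i = i) →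
    ∀ i j, blockOf i = blockOf j ↔ (m.1 i = i ↔ m.1 j = j) := by
  decide +kernel

theorem singleRep_fixed : ∃ i, singleRep.1 i = i := by decide +kernel

theorem transposition_of_fixed : ∀ x : Model, x * x = 1 → x ≠ 1 → (∃ i, x.1 i = i) →
    (∃ m : Model, m ^ 3 = 1 ∧ m ≠ 1 ∧ x * m = m * x) → x ∈ setTwo := by
  decide +kernel

/-- The elements of cube one, as permutations. -/
def cubeSub : Subgroup (Perm (Fin 6)) where
  carrier := {σ | ∃ x : Model, x ^ 3 = 1 ∧ x.1 = σ}
  one_mem' := ⟨1, one_pow 3, rfl⟩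
  mul_mem' := by
    rintro _ _ ⟨x, hx, rfl⟩ ⟨y, hy, rfl⟩
    exact ⟨x * y, by rw [Commute.mul_pow (cube_facts.1 x hx y hy), hx, hy, one_mul], rfl⟩
  inv_mem' := by
    rintro _ ⟨x, hx, rfl⟩
    exact ⟨x⁻¹, by rw [inv_pow, hx, inv_one], rfl⟩

theorem card_cubeSub : Nat.card cubeSub = 9 := by
  have e : Nat.card cubeSub = Nat.card {x : Model // x ^ 3 = 1} :=
    (Nat.card_congr (Equiv.ofBijective
      (fun x : {x : Model // x ^ 3 = 1} => (⟨x.1.1, x.1, x.2, rfl⟩ : cubeSub))
      ⟨fun x y h => Subtype.ext (Subtype.ext (congrArg Subtype.val h : _)),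
        fun ⟨_, x, hx, rfl⟩ => ⟨⟨x, hx⟩, rfl⟩⟩)).symm
  rw [e, Nat.card_eq_fintype_card, Fintype.card_subtype]
  exact cube_facts.2

theorem normalizer_cubeSub_le : Subgroup.normalizer (cubeSub : Set (Perm (Fin 6))) ≤ blockStab := by
  intro σ hσ i j
  obtain ⟨-, -, -, -, ⟨hs, hs1⟩, -⟩ := rep_orders
  obtain ⟨m, hm, hme⟩ :=
    (Subgroup.mem_normalizer_iff.mp hσ singleRep.1).mp ⟨singleRep, hs, rfl⟩
  have hiff : ∀ k, m.1 (σ k) = σ k ↔ singleRep.1 k = k := by
    intro k
    rw [hme]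
    simp
  obtain ⟨k, hk⟩ := singleRep_fixed
  have hm1 : m ≠ 1 := by
    intro h
    subst h
    refine hs1 (Subtype.ext (Equiv.ext fun l => ?_))
    have := (hiff l).mp rfl
    simpa using this
  have h1 := single_fixed_blocks m hm hm1 ⟨σ k, (hiff k).mpr hk⟩ (σ i) (σ j)
  rw [hiff, hiff] at h1
  exact (single_fixed_blocks singleRep hs hs1 singleRep_fixed i j).trans h1.symm

variable {G : Type u} [Group G] [Finite G] (X : Setting G)

theorem Setting.cube_iff_mem (x : X.N) : (x : G) ∈ (X.M : Subgroup G) ↔ x ^ 3 = 1 := by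
  haveI : Fact (Nat.Prime 3) := ⟨Nat.prime_three⟩
  refine ⟨fun h => Subtype.ext (by simpa using X.cube _ h), fun h => ?_⟩
  have hp : IsPGroup 3 (Subgroup.zpowers x) := by
    intro ⟨y, hy⟩
    obtain ⟨k, rfl⟩ := Subgroup.mem_zpowers_iff.mp hy
    exact ⟨1, Subtype.ext (by
      show (x ^ k) ^ (3 ^ 1) = 1
      rw [pow_one, ← zpow_natCast, ← zpow_mul, mul_comm, zpow_mul, zpow_natCast, h, one_zpow])⟩
  obtain ⟨P, hP⟩ := hp.exists_le_sylow
  set Q := X.M.subtype X.M_le_N with hQ
  haveI : (Q : Subgroup X.N).Normal := by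
    constructor
    intro a ha g
    rw [hQ, Sylow.coe_subtype, Subgroup.mem_subgroupOf] at ha ⊢
    exact X.conj_mem g.2 ha
  haveI := Sylow.unique_of_normal Q inferInstance
  have := hP (Subgroup.mem_zpowers x)
  rw [Subsingleton.elim P Q, hQ, Sylow.coe_subtype, Subgroup.mem_subgroupOf] at this
  exact this

theorem Setting.exists_embedding (r : X.N) (hr2 : r * r = 1) (hr1 : r ≠ 1)
    (hf : X.fixSub r ≠ ⊥) : ∃ φ : X.N ≃* Model, φ r ∈ setTwo := by
  classical
  haveI := Fintype.ofFinite X.N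
  haveI : Fact (Nat.Prime 2) := ⟨Nat.prime_two⟩
  haveI : Fact (Nat.Prime 3) := ⟨Nat.prime_three⟩
  set Mn : Subgroup X.N := (X.M : Subgroup G).subgroupOf X.N with hMn
  haveI : Mn.Normal := ⟨fun a ha g => by
    rw [hMn, Subgroup.mem_subgroupOf] at ha ⊢; exact X.conj_mem g.2 ha⟩
  have hMn9 : Nat.card Mn = 9 := by
    rw [hMn, Nat.card_congr (Subgroup.subgroupOfEquivOfLe X.M_le_N).toEquiv, X.card_M]
  -- a Sylow subgroup through `r` and its centre
  obtain ⟨S, hS⟩ := (IsPGroup.of_card (n := 1) (G := Subgroup.zpowers r) (p := 2) (by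
    rw [Nat.card_zpowers, pow_one, orderOf_eq_prime (by rw [pow_two, hr2]) hr1])).exists_le_sylow
  have hrS : r ∈ (S : Subgroup X.N) := hS (Subgroup.mem_zpowers r)
  obtain ⟨e⟩ := X.dihedral S
  obtain ⟨h2one, h2sq, h2c⟩ := dihedral_rotation
  set z0 : ↥(S : Subgroup X.N) := e.symm (DihedralGroup.r 1 * DihedralGroup.r 1) with hz0
  have hz2 : (z0 : X.N) * z0 = 1 := congrArg Subtype.val
    (show z0 * z0 = 1 by rw [hz0, ← map_mul, h2sq, map_one])
  have hz1 : (z0 : X.N) ≠ 1 := fun h =>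
    h2one ((map_eq_one_iff e.symm e.symm.injective).mp (Subtype.ext h))
  have hzc : ∀ y ∈ (S : Subgroup X.N), (z0 : X.N) * y = y * z0 := fun y hy => congrArg Subtype.val
    (show z0 * ⟨y, hy⟩ = ⟨y, hy⟩ * z0 by
      rw [hz0, ← e.symm_apply_apply ⟨y, hy⟩, ← map_mul, ← map_mul, h2c])
  obtain ⟨s, hs, hinv⟩ := X.central_inverts S z0.2 hz2 hz1 hzc
  set z : X.N := (z0 : X.N) with hz
  -- the second involution
  have hzr : z * r = r * z := hzc r hrS
  set q : X.N := r * z with hq
  have hqq : q * q = 1 := by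
    rw [hq, mul_assoc, ← mul_assoc z, hzr, ← mul_assoc, ← mul_assoc, hr2, one_mul, hz2]
  have hrr : (r : G) * r = 1 := congrArg Subtype.val hr2
  have hr1' : (r : G) ≠ 1 := fun h => hr1 (Subtype.ext h)
  obtain ⟨⟨u, hu⟩, hu1⟩ := Subgroup.ne_bot_iff_exists_ne_one.mp hf
  have hu1' : u ≠ 1 := fun h => hu1 (Subtype.ext h)
  have hqconj : ∀ m ∈ (X.M : Subgroup G), (q : G) * m * (q : G)⁻¹ = (r : G) * m⁻¹ * (r : G)⁻¹ := by
    intro m hm
    show (r : G) * z * m * ((r : G) * z)⁻¹ = _
    rw [← hinv m hm]; group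
  have hI := X.invol_trivial_inv r.2 hrr hr1'
  have hIM : X.invSub r ≠ (X.M : Subgroup G) := fun h =>
    hu1' (X.fix_inf_inv _ hu (h ▸ (X.mem_fixSub.mp hu).1))
  have h3 := X.card_line (X.invSub_le _) hI hIM
  set L : Subgroup X.N := Subgroup.centralizer ({q} : Set X.N) with hL
  have hmemL : ∀ x : X.N, x ∈ L ↔ x * q = q * x := fun x =>
    Subgroup.mem_centralizer_singleton_iff
  have hLM : ∀ x : X.N, (x : G) ∈ (X.M : Subgroup G) → (x ∈ L ↔ (x : G) ∈ X.invSub r) := by
    intro x hx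
    rw [hmemL]
    have key : x * q = q * x ↔ (q : G) * x * (q : G)⁻¹ = x := by
      rw [mul_inv_eq_iff_eq_mul]
      exact ⟨fun h => (congrArg Subtype.val h).symm, fun h => Subtype.ext h.symm⟩
    rw [key, hqconj _ hx]
    constructor
    · intro h
      refine ⟨hx, ?_⟩
      rw [← inv_inj, inv_inv]
      rw [show ((r : G) * x * (r : G)⁻¹)⁻¹ = (r : G) * (x : G)⁻¹ * (r : G)⁻¹ by group]
      exact h
    · intro h
      rw [show (r : G) * (x : G)⁻¹ * (r : G)⁻¹ = ((r : G) * x * (r : G)⁻¹)⁻¹ by group, h.2,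
        inv_inv]
  have hq1 : q ≠ 1 := by
    intro h
    have : r = z := by
      rw [eq_comm, ← inv_eq_of_mul_eq_one_right h, inv_eq_of_mul_eq_one_right hr2]
    exact hu1' (X.inv_fix_trivial hu.1 (by
      rw [← hinv u hu.1, ← this, ← (X.mem_fixSub.mp hu).2, mul_inv_cancel_right]))
  have hnotM : ¬ ∀ m : X.N, (m : G) ∈ (X.M : Subgroup G) → m ∈ L := fun h => hu1'
    (X.fix_inf_inv _ hu ((hLM ⟨u, X.M_le_N hu.1⟩ hu.1).mp (h _ hu.1)))
  -- the order of `L`
  have hzq : z * q = q * z := by rw [hq, ← mul_assoc, hzr]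
  have hrq : r * q = q * r := by rw [hq, mul_assoc r z r, hzr]
  have h4 : 4 ∣ Nat.card L := by
    have hle : ({1, r, z, q} : Finset X.N) ⊆
        Finset.univ.filter (fun x => x ∈ (S : Subgroup X.N) ⊓ L) := by
      intro x hx
      simp only [Finset.mem_insert, Finset.mem_singleton] at hx
      simp only [Finset.mem_filter, Finset.mem_univ, true_and, Subgroup.mem_inf, hmemL]
      rcases hx with rfl | rfl | rfl | rfl
      · exact ⟨one_mem _, by simp⟩
      · exact ⟨hrS, hrq⟩
      · exact ⟨z0.2, hzq⟩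
      · exact ⟨mul_mem hrS z0.2, rfl⟩
    have hrz : r ≠ z := fun h => hq1 (by rw [hq, ← h, hr2])
    have h4' : ({1, r, z, q} : Finset X.N).card = 4 := by
      rw [Finset.card_insert_of_notMem, Finset.card_insert_of_notMem,
        Finset.card_insert_of_notMem, Finset.card_singleton]
      · simp only [Finset.mem_singleton, hq]
        exact fun h => hr1 (mul_right_cancel ((one_mul z).trans h)).symm
      · simp only [Finset.mem_insert, Finset.mem_singleton, hq, not_or]
        exact ⟨hrz, fun h => hz1 (mul_left_cancel ((mul_one r).trans h)).symm⟩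
      · simp only [Finset.mem_insert, Finset.mem_singleton, not_or]
        exact ⟨fun h => hr1 h.symm, fun h => hz1 h.symm, fun h => hq1 h.symm⟩
    have hc := (Finset.card_le_card hle)
    rw [h4', ← Fintype.card_subtype, ← Nat.card_eq_fintype_card] at hc
    have hd : Nat.card ↥((S : Subgroup X.N) ⊓ L) ∣ 8 :=
      X.card_sylow_two S ▸ Subgroup.card_dvd_of_le inf_le_left
    obtain ⟨i, hi, hi'⟩ := (Nat.dvd_prime_pow Nat.prime_two).mp (show _ ∣ 2 ^ 3 from hd)
    refine dvd_trans ?_ (Subgroup.card_dvd_of_le (inf_le_right : (S : Subgroup X.N) ⊓ L ≤ L))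
    rw [hi']
    exact pow_dvd_pow 2 (show 2 ≤ i by
      by_contra hlt
      have : 2 ^ i ≤ 2 ^ 1 := Nat.pow_le_pow_right (by norm_num) (by omega)
      omega)
  have h3L : 3 ∣ Nat.card L := by
    obtain ⟨⟨w, hw⟩, hw1⟩ := Subgroup.ne_bot_iff_exists_ne_one.mp hI
    have hwM := hw.1
    have : orderOf (⟨⟨w, X.M_le_N hwM⟩, (hLM ⟨w, X.M_le_N hwM⟩ hwM).mpr hw⟩ : L) = 3 :=
      orderOf_eq_prime (Subtype.ext (Subtype.ext (by simpa using X.cube w hwM)))
        (fun h => hw1 (Subtype.ext (congrArg (fun t : L => ((t : X.N) : G)) h)))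
    exact this ▸ orderOf_dvd_natCard _
  have h9L : ¬ 9 ∣ Nat.card L := by
    intro h
    obtain ⟨P, hP⟩ := Sylow.exists_subgroup_card_pow_prime 3 (n := 2) (G := L)
      (by simpa using h)
    refine hnotM fun m hm => ?_
    have hle : P.map L.subtype ≤ Mn := by
      rintro _ ⟨x, hx, rfl⟩
      refine Subgroup.mem_subgroupOf.mpr ((X.cube_iff_mem _).mpr ?_)
      have h9 : orderOf x ∣ 3 ^ 2 := hP ▸ Subgroup.orderOf_mk x hx ▸ orderOf_dvd_natCard _
      obtain ⟨Q, hQ⟩ := (IsPGroup.of_card hP).map L.subtype |>.exists_le_sylow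
      have : Q = X.M.subtype X.M_le_N := by
        haveI : ((X.M.subtype X.M_le_N : Sylow 3 X.N) : Subgroup X.N).Normal := by
          rw [Sylow.coe_subtype]; infer_instance
        haveI := Sylow.unique_of_normal (X.M.subtype X.M_le_N) inferInstance
        exact Subsingleton.elim _ _
      have hx' := hQ ⟨x, hx, rfl⟩
      rw [this, Sylow.coe_subtype, Subgroup.mem_subgroupOf] at hx'
      exact Subtype.ext (by simpa using X.cube _ hx')
    have heq : P.map L.subtype = Mn := Subgroup.eq_of_le_of_card_ge hle (by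
      rw [hMn9, Subgroup.card_map_of_injective (Subgroup.subtype_injective L), hP]; norm_num)
    have : m ∈ P.map L.subtype := heq ▸ Subgroup.mem_subgroupOf.mpr hm
    obtain ⟨x, -, rfl⟩ := this
    exact x.2
  have hd : Nat.card L ∣ 72 := X.card_N ▸ L.card_subgroup_dvd_card
  have h24 : Nat.card L ≠ 24 := by
    intro h
    obtain ⟨P⟩ : Nonempty (Sylow 2 L) := inferInstance
    obtain ⟨P', hP'⟩ := (IsPGroup.of_card (n := 1) (G := Subgroup.zpowers (⟨q, (hmemL q).mpr rfl⟩ : L))
      (p := 2) (by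
        rw [Nat.card_zpowers, pow_one, orderOf_eq_prime (Subtype.ext (by
          show q ^ 2 = 1; rw [pow_two, hqq])) (fun e => hq1 (congrArg Subtype.val e))])).exists_le_sylow
    have hc : Nat.card ↥(P' : Subgroup L) = 8 := by
      rw [Sylow.card_eq_multiplicity, h, show (24 : ℕ) = 2 ^ 3 * 3 by norm_num,
        Nat.factorization_mul (by norm_num) (by norm_num), Nat.Prime.factorization_pow Nat.prime_two,
        Nat.Prime.factorization Nat.prime_three]
      simp
    have hc' : Nat.card ↥((P' : Subgroup L).map L.subtype) = 8 := by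
      rw [Subgroup.card_map_of_injective (Subgroup.subtype_injective L), hc]
    obtain ⟨T, hT⟩ := (IsPGroup.of_card (n := 3) (p := 2) (by rw [hc']; norm_num :
      Nat.card ↥((P' : Subgroup L).map L.subtype) = 2 ^ 3)).exists_le_sylow
    have hTeq : (T : Subgroup X.N) = (P' : Subgroup L).map L.subtype :=
      (Subgroup.eq_of_le_of_card_ge hT (by rw [hc', X.card_sylow_two T])).symm
    obtain ⟨-, -, hqi⟩ := X.central_inverts T (z := q)
      (by rw [hTeq]; exact ⟨_, hP' (Subgroup.mem_zpowers _), rfl⟩) hqq hq1 (by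
        intro y hy
        rw [hTeq] at hy
        obtain ⟨x, -, rfl⟩ := hy
        exact ((hmemL _).mp x.2).symm)
    obtain ⟨⟨w, hw⟩, hw1⟩ := Subgroup.ne_bot_iff_exists_ne_one.mp hI
    have hw' : w = w⁻¹ := by
      have h1 := hqi w hw.1
      rw [hqconj w hw.1, show (r : G) * w⁻¹ * (r : G)⁻¹ = ((r : G) * w * (r : G)⁻¹)⁻¹ by group,
        hw.2, inv_inv] at h1
      exact h1
    exact hw1 (Subtype.ext (X.inv_fix_trivial hw.1 hw'.symm))
  have hL12 : Nat.card L = 12 := by
    have hmem : Nat.card L ∈ (72 : ℕ).divisors := Nat.mem_divisors.mpr ⟨hd, by norm_num⟩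
    have key : ∀ n ∈ (72 : ℕ).divisors, 4 ∣ n → 3 ∣ n → ¬ 9 ∣ n → n ≠ 24 → n = 12 := by decide
    exact key _ hmem h4 h3L h9L h24
  have hidx : Nat.card (X.N ⧸ L) = 6 := by
    have := L.card_eq_card_quotient_mul_card_subgroup
    rw [X.card_N, hL12] at this
    omega
  -- the action on the cosets
  obtain ⟨eq6⟩ : Nonempty ((X.N ⧸ L) ≃ Fin 6) := ⟨hidx ▸ Finite.equivFin _⟩
  let π : X.N →* Perm (Fin 6) :=
    eq6.permCongrHom.toMonoidHom.comp (MulAction.toPermHom X.N (X.N ⧸ L))
  have hπ : Function.Injective π := by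
    rw [injective_iff_map_eq_one]
    intro k hk
    have hker : k ∈ L.normalCore := by
      rw [Subgroup.normalCore_eq_ker, MonoidHom.mem_ker]
      exact (map_eq_one_iff eq6.permCongrHom eq6.permCongrHom.injective).mp hk
    have hcore : ∀ x ∈ L.normalCore, (x : G) ∈ (X.M : Subgroup G) → x = 1 := by
      intro x hx hxM
      by_contra hx1
      have hxI := (hLM x hxM).mp (L.normalCore_le hx)
      have hx1' : (x : G) ≠ 1 := fun h => hx1 (Subtype.ext h)
      have hsx : s * x * s⁻¹ ∈ L.normalCore := (Subgroup.normalCore_normal L).conj_mem _ hx s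
      have hsI : (s : G) * x * (s : G)⁻¹ ∈ X.invSub r :=
        (hLM (s * x * s⁻¹) (X.conj_mem s.2 hxM)).mp (L.normalCore_le hsx)
      have hfix := sq_fixes (eq_or_eq_inv_of_mem_line h3 hxI hsI hx1' (by simpa using hx1'))
      rw [show (s : G) * s = (z : G) from congrArg Subtype.val hs, hinv _ hxM] at hfix
      exact hx1' (X.inv_fix_trivial hxM hfix)
    have hkM : (k : G) ∈ (X.M : Subgroup G) := by
      refine X.mem_of_centralizes fun m hm => ?_
      set mn : X.N := ⟨m, X.M_le_N hm⟩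
      have h1 : k * mn * k⁻¹ * mn⁻¹ ∈ L.normalCore := by
        rw [show k * mn * k⁻¹ * mn⁻¹ = k * (mn * k⁻¹ * mn⁻¹) by group]
        exact mul_mem hker ((Subgroup.normalCore_normal L).conj_mem _ (inv_mem hker) mn)
      have h2 := hcore _ h1 (show (k : G) * m * (k : G)⁻¹ * m⁻¹ ∈ (X.M : Subgroup G) from
        mul_mem (X.conj_mem k.2 hm) (inv_mem hm))
      have h2' : (k : G) * m * (k : G)⁻¹ * m⁻¹ = 1 := congrArg Subtype.val h2
      exact mul_inv_eq_iff_eq_mul.mp (mul_inv_eq_one.mp h2')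
    exact hcore k hker hkM
  -- conjugation into the model
  have hQ9 : Nat.card ↥(Mn.map π) = 9 := by rw [Subgroup.card_map_of_injective hπ, hMn9]
  have h6 : Nat.card (Perm (Fin 6)) = 720 := by
    rw [Nat.card_eq_fintype_card, Fintype.card_perm, Fintype.card_fin]; rfl
  have hsyl : ∀ (P : Subgroup (Perm (Fin 6))), Nat.card P = 9 →
      ∃ T : Sylow 3 (Perm (Fin 6)), (T : Subgroup (Perm (Fin 6))) = P := by
    intro P hP
    obtain ⟨T, hT⟩ := (IsPGroup.of_card (n := 2) (p := 3) (by rw [hP]; norm_num :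
      Nat.card P = 3 ^ 2)).exists_le_sylow
    refine ⟨T, (Subgroup.eq_of_le_of_card_ge hT ?_).symm⟩
    rw [hP, Sylow.card_eq_multiplicity, h6, show (720 : ℕ) = 3 ^ 2 * 80 by norm_num,
      Nat.factorization_mul (by norm_num) (by norm_num), Nat.Prime.factorization_pow Nat.prime_three,
      Finsupp.add_apply, Finsupp.single_eq_same, Nat.factorization_eq_zero_of_not_dvd (by norm_num)]
    norm_num
  obtain ⟨T1, hT1⟩ := hsyl _ hQ9
  obtain ⟨T2, hT2⟩ := hsyl _ card_cubeSub
  obtain ⟨c, hc⟩ := MulAction.exists_smul_eq (Perm (Fin 6)) T1 T2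
  have hmap : (Mn.map π).map (MulAut.conj c).toMonoidHom = cubeSub := by
    rw [← hT1, ← hT2, ← hc]; rfl
  let π' : X.N →* Perm (Fin 6) := (MulAut.conj c).toMonoidHom.comp π
  have hmap' : Mn.map π' = cubeSub := by rw [← hmap, Subgroup.map_map]
  have hrange : ∀ n, π' n ∈ blockStab := by
    intro n
    refine normalizer_cubeSub_le (Subgroup.mem_normalizer_iff.mpr ?_)
    intro σ
    rw [← hmap']
    constructor
    · rintro ⟨m, hm, rfl⟩
      exact ⟨n * m * n⁻¹, Subgroup.Normal.conj_mem inferInstance _ hm _, by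
        rw [map_mul, map_mul, map_inv]⟩
    · rintro ⟨m, hm, he⟩
      refine ⟨n⁻¹ * m * n, ?_, ?_⟩
      · have := Subgroup.Normal.conj_mem (inferInstance : Mn.Normal) _ hm n⁻¹
        rwa [inv_inv] at this
      · rw [map_mul, map_mul, map_inv, he]; group
  let φ0 : X.N →* Model := π'.codRestrict blockStab hrange
  have hφ : Function.Bijective φ0 := by
    rw [Nat.bijective_iff_injective_and_card]
    refine ⟨fun a b h => hπ ((MulAut.conj c).injective (congrArg Subtype.val h : _)), ?_⟩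
    rw [X.card_N, Nat.card_eq_fintype_card, card_model]
  refine ⟨MulEquiv.ofBijective φ0 hφ, ?_⟩
  refine transposition_of_fixed (φ0 r) (by rw [← map_mul, hr2, map_one])
    (fun h => hr1 (hφ.1 (h.trans (map_one φ0).symm))) ⟨c (eq6 (QuotientGroup.mk 1)), ?_⟩
    ⟨φ0 ⟨u, X.M_le_N hu.1⟩, ?_, ?_, ?_⟩
  · show c (π r (c⁻¹ (c (eq6 (QuotientGroup.mk 1))))) = _
    rw [← Equiv.Perm.mul_apply c⁻¹ c, inv_mul_cancel, Equiv.Perm.one_apply]
    congr 1
    show eq6 (r • eq6.symm (eq6 (QuotientGroup.mk 1))) = _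
    rw [Equiv.symm_apply_apply]
    congr 1
    show QuotientGroup.mk (r * 1) = _
    rw [mul_one, QuotientGroup.eq, mul_one]
    exact inv_mem ((hmemL r).mpr hrq)
  · rw [← map_pow, show (⟨u, X.M_le_N hu.1⟩ : X.N) ^ 3 = 1 from
      (X.cube_iff_mem _).mp hu.1, map_one]
  · exact fun h => hu1' (congrArg Subtype.val (hφ.1 (h.trans (map_one φ0).symm)))
  · rw [← map_mul, ← map_mul]
    exact congrArg φ0 (Subtype.ext (X.mem_fixSub.mp hu).2.symm)

end Cfsg.Lib.Recog.NineEight
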