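import Mathlib

/-!
# The group `Sym(3) wr 2` of order 72, with the integer class functions used against it
-/

set_option autoImplicit false
set_option maxRecDepth 100000
set_option synthInstance.maxSize 2000
set_option synthInstance.maxHeartbeats 200000

namespace Cfsg.Lib.Recog.NineEight

open Equiv

/-- The block of a point. -/
def blockOf (i : Fin 6) : Bool := decide (i.val < 3)

/-- The stabiliser of the partition `{0,1,2}`, `{3,4,5}`. -/
def blockStab : Subgroup (Perm (Fin 6)) where
  carrier := {σ | ∀ i j, blockOf i = blockOf j ↔ blockOf (σ i) = blockOf (σ j)}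
  one_mem' := fun _ _ => Iff.rfl
  mul_mem' := fun {σ τ} hσ hτ i j => (hτ i j).trans (hσ (τ i) (τ j))
  inv_mem' := fun {σ} hσ i j => by
    simpa using (hσ (σ⁻¹ i) (σ⁻¹ j)).symm

instance blockStabDecMem : DecidablePred (· ∈ blockStab) := fun σ =>
  decidable_of_iff (∀ i j, blockOf i = blockOf j ↔ blockOf (σ i) = blockOf (σ j)) Iff.rfl

/-- The group of order 72. -/
abbrev Model : Type := blockStab

/-- The six permutations of three letters. -/
def tab : Fin 6 → Fin 3 → Fin 3 :=
  ![![0, 1, 2], ![0, 2, 1], ![1, 0, 2], ![1, 2, 0], ![2, 0, 1], ![2, 1, 0]]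

/-- The position of the inverse permutation of three letters. -/
def tabInv : Fin 6 → Fin 6 := ![0, 1, 2, 4, 3, 5]

/-- A point from a block and a position. -/
def pointOf (b : Bool) (j : Fin 3) : Fin 6 :=
  if b then ⟨j.val, by omega⟩ else ⟨3 + j.val, by omega⟩

/-- The position of a point in its block. -/
def posOf (i : Fin 6) : Fin 3 := ⟨i.val % 3, by omega⟩

/-- The images of the points under the element with the given coordinates. -/
def elFun (q : Fin 6 × Fin 6 × Bool) (i : Fin 6) : Fin 6 :=
  pointOf (xor (blockOf i) q.2.2) (tab (if blockOf i then q.1 else q.2.1) (posOf i))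

/-- The preimages. -/
def elInv (q : Fin 6 × Fin 6 × Bool) (i : Fin 6) : Fin 6 :=
  let b := xor (blockOf i) q.2.2
  pointOf b (tab (tabInv (if b then q.1 else q.2.1)) (posOf i))

theorem elInv_elFun : ∀ q i, elInv q (elFun q i) = i := by decide +kernel

theorem elFun_elInv : ∀ q i, elFun q (elInv q i) = i := by decide +kernel

theorem elFun_blocks : ∀ q i j, blockOf i = blockOf j ↔
    blockOf (elFun q i) = blockOf (elFun q j) := by decide +kernel

/-- The element with the given coordinates. -/
def el (q : Fin 6 × Fin 6 × Bool) : Model :=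
  ⟨⟨elFun q, elInv q, elInv_elFun q, elFun_elInv q⟩, elFun_blocks q⟩

theorem tab_injective : Function.Injective tab := by decide +kernel

theorem tab_surjective : ∀ f : Fin 3 → Fin 3, Function.Injective f → ∃ a, tab a = f := by
  decide +kernel

theorem el_bijective : Function.Bijective el := by
  constructor
  · have h : ∀ q r, (∀ i, elFun q i = elFun r i) → q = r := by decide +kernel
    intro q r e
    exact h q r fun i => congrArg (fun x : Model => x.1 i) e
  · intro x
    have hx : ∀ i j, blockOf i = blockOf j ↔ blockOf (x.1 i) = blockOf (x.1 j) := x.2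
    have hp : ∀ b j, blockOf (pointOf b j) = b ∧ posOf (pointOf b j) = j := by decide
    have hq : ∀ i, pointOf (blockOf i) (posOf i) = i := by decide
    obtain ⟨s, hs⟩ : ∃ s, blockOf (x.1 (pointOf true 0)) = xor true s :=
      ⟨!blockOf (x.1 (pointOf true 0)), by simp⟩
    have hb : ∀ i, blockOf (x.1 i) = xor (blockOf i) s := by
      intro i
      have h1 := hx i (pointOf true 0)
      rw [(hp _ _).1, hs] at h1
      cases hi : blockOf i <;> cases hv : blockOf (x.1 i) <;> cases s <;> simp_all
    have hinj : ∀ b, Function.Injective fun j => posOf (x.1 (pointOf b j)) := by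
      intro b j k e
      have : x.1 (pointOf b j) = x.1 (pointOf b k) := by
        rw [← hq (x.1 (pointOf b j)), ← hq (x.1 (pointOf b k)), hb, hb, (hp b j).1, (hp b k).1,
          show posOf (x.1 (pointOf b j)) = posOf (x.1 (pointOf b k)) from e]
      simpa [(hp b j).2, (hp b k).2] using congrArg posOf (x.1.injective this)
    obtain ⟨a, ha⟩ := tab_surjective _ (hinj true)
    obtain ⟨c, hc⟩ := tab_surjective _ (hinj false)
    refine ⟨(a, c, s), Subtype.ext (Equiv.ext fun i => ?_)⟩
    show elFun (a, c, s) i = x.1 i
    rw [← hq (x.1 i), hb]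
    conv_rhs => rw [← hq i]
    cases hi : blockOf i <;> simp [elFun, hi, ha, hc, (hp _ _).1]

/-- The enumeration of the group. -/
instance (priority := high) modelFintype : Fintype Model :=
  Fintype.ofBijective el el_bijective

theorem card_model : Fintype.card Model = 72 := by decide +kernel

/-- An action given by a function. -/
def actionHom {n : ℕ} (f : Model → Fin n → Fin n) (h1 : ∀ i, f 1 i = i)
    (hm : ∀ x y i, f (x * y) i = f x (f y i)) : Model →* Perm (Fin n) where
  toFun x :=
    { toFun := f x
      invFun := f x⁻¹
      left_inv := fun i => by rw [← hm, inv_mul_cancel, h1]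
      right_inv := fun i => by rw [← hm, mul_inv_cancel, h1] }
  map_one' := Equiv.ext h1
  map_mul' x y := Equiv.ext fun i => hm x y i

/-- The natural action. -/
def natHom : Model →* Perm (Fin 6) := blockStab.subtype

/-- The action on the two blocks. -/
def actTwo (x : Model) (b : Fin 2) : Fin 2 :=
  if blockOf (x.1 (if b = 0 then 0 else 3)) then 0 else 1

theorem actTwo_mul : ∀ x y : Model, ∀ i, actTwo (x * y) i = actTwo x (actTwo y i) := by
  decide +kernel

/-- The action on oriented blocks: a block together with a parity. -/
def actFour (x : Model) (p : Fin 4) : Fin 4 :=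
  let a : Fin 6 := if p.val < 2 then x.1 0 else x.1 3
  let b : Fin 6 := if p.val < 2 then x.1 1 else x.1 4
  let e : ℕ := if b.val % 3 = (a.val + 1) % 3 then p.val % 2 else (p.val + 1) % 2
  if blockOf a then ⟨e % 2, by omega⟩ else ⟨2 + e % 2, by omega⟩

theorem actFour_mul : ∀ x y : Model, ∀ i, actFour (x * y) i = actFour x (actFour y i) := by
  decide +kernel

/-- The action on transversals of the two blocks. -/
def actNine (x : Model) (p : Fin 9) : Fin 9 :=
  let a : Fin 6 := x.1 ⟨p.val / 3, by omega⟩
  let b : Fin 6 := x.1 ⟨3 + p.val % 3, by omega⟩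
  if blockOf a then ⟨(3 * a.val + b.val % 3) % 9, by omega⟩
  else ⟨(3 * b.val + a.val % 3) % 9, by omega⟩

theorem actNine_mul : ∀ x y : Model, ∀ i, actNine (x * y) i = actNine x (actNine y i) := by
  decide +kernel

/-- The action on the two blocks as a homomorphism. -/
def twoHom : Model →* Perm (Fin 2) := actionHom actTwo (by decide +kernel) actTwo_mul

/-- The action on oriented blocks as a homomorphism. -/
def fourHom : Model →* Perm (Fin 4) := actionHom actFour (by decide +kernel) actFour_mul

/-- The action on transversals as a homomorphism. -/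
def nineHom : Model →* Perm (Fin 9) := actionHom actNine (by decide +kernel) actNine_mul

/-- The number of fixed points. -/
def fixNum {n : ℕ} (π : Model →* Perm (Fin n)) (x : Model) : ℤ :=
  ((Finset.univ.filter fun i => π x i = i).card : ℤ)

/-- The sign. -/
def sgTwo (x : Model) : ℤ := (Perm.sign (natHom x) : ℤ)

/-- The sign on blocks. -/
def sgBlock (x : Model) : ℤ := (Perm.sign (twoHom x) : ℤ)

/-- The character of degree two. -/
def chTwo (x : Model) : ℤ := fixNum fourHom x - fixNum twoHom x

/-- The first character of degree four. -/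
def chFive (x : Model) : ℤ := fixNum natHom x - fixNum twoHom x

/-- The second character of degree four. -/
def chSeven (x : Model) : ℤ := fixNum nineHom x - 1 - chFive x

/-- The function `A`. -/
def funA (x : Model) : ℤ := 1 + sgBlock x + chTwo x - chFive x

/-- The function `B`. -/
def funB (x : Model) : ℤ := 1 + sgTwo x * sgBlock x + chTwo x - chSeven x

/-- The function `E`. -/
def funE (x : Model) : ℤ := 1 - sgTwo x - chFive x + chSeven x * sgTwo x

/-- The function `F`. -/
def funF (x : Model) : ℤ := 1 - sgTwo x + chFive x * sgTwo x - chSeven x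

/-- The four functions. -/
def fn : Fin 4 → Model → ℤ := ![funA, funB, funE, funF]

theorem fn_vanish : ∀ x : Model, x ^ 4 = 1 → ∀ k, fn k x = 0 := by decide +kernel

theorem sum_fn : ∀ k, ∑ x, fn k x = 72 := by decide +kernel

theorem inner_fn : ∀ k l, ∑ x, fn k x * fn l x =
    72 * (if k = l then 4 else if l.val + k.val = 3 then 1 else 2) := by decide +kernel

theorem combination : ∀ x : Model, 2 * funA x + 2 * funB x - funE x - funF x =
    if x ^ 3 = 1 ∧ x ≠ 1 then 18 else 0 := by decide +kernel

/-- The involutions of the first set: block swaps and products of two transpositions. -/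
def setOne : Finset Model :=
  Finset.univ.filter fun x => x * x = 1 ∧ (sgBlock x = -1 ∨ fixNum natHom x = 2)

/-- The involutions of the second set: transpositions. -/
def setTwo : Finset Model := Finset.univ.filter fun x => x * x = 1 ∧ fixNum natHom x = 4

/-- The pair sums. -/
def pairSum (s t : Finset Model) (k : Fin 4) : ℤ := ∑ x ∈ s, ∑ y ∈ t, fn k (x * y)

theorem pair_sums :
    (∀ k, pairSum setOne setOne k = 36 * ![11, 16, 7, 5] k) ∧
    (∀ k, pairSum setOne setTwo k = 36 * ![3, 0, 3, 3] k) ∧
    (∀ k, pairSum setTwo setTwo k = 36 * ![1, 2, -1, 1] k) := by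
  decide +kernel

end Cfsg.Lib.Recog.NineEight
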