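import Cfsg.Agent.Lib.Recog.NineEight.Model

/-!
# Classes of the group of order 72
-/

set_option autoImplicit false
set_option maxRecDepth 100000
set_option synthInstance.maxSize 2000
set_option synthInstance.maxHeartbeats 200000

namespace Cfsg.Lib.Recog.NineEight

open Equiv

/-- A block swap. -/
def swapRep : Model := el (0, 0, true)

/-- A transposition. -/
def transRep : Model := el (2, 0, false)

/-- A product of two transpositions in different blocks. -/
def centRep : Model := el (2, 2, false)

/-- A double three-cycle. -/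
def doubleRep : Model := el (3, 3, false)

/-- A three-cycle fixed by the transposition. -/
def singleRep : Model := el (0, 3, false)

theorem cube_facts : (∀ x : Model, x ^ 3 = 1 → ∀ y : Model, y ^ 3 = 1 → x * y = y * x) ∧
    (Finset.univ.filter fun x : Model => x ^ 3 = 1).card = 9 := by
  decide +kernel

theorem rep_orders : (swapRep * swapRep = 1 ∧ swapRep ≠ 1) ∧
    (transRep * transRep = 1 ∧ transRep ≠ 1) ∧ (centRep * centRep = 1 ∧ centRep ≠ 1) ∧
    (doubleRep ^ 3 = 1 ∧ doubleRep ≠ 1) ∧ (singleRep ^ 3 = 1 ∧ singleRep ≠ 1) ∧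
    swapRep * doubleRep = doubleRep * swapRep ∧ transRep * singleRep = singleRep * transRep := by
  decide +kernel

theorem commute_transRep : ∀ x : Model, x ^ 3 = 1 → x * transRep = transRep * x →
    x = 1 ∨ x = singleRep ∨ x = singleRep⁻¹ := by
  decide +kernel

theorem double_not_conj : ∀ x : Model, x * doubleRep * x⁻¹ ≠ singleRep ∧
    x * doubleRep * x⁻¹ ≠ singleRep⁻¹ := by
  decide +kernel

theorem centRep_inverts : ∀ m : Model, m ^ 3 = 1 → centRep * m * centRep⁻¹ = m⁻¹ := by
  decide +kernel

theorem mem_setOne_iff : ∀ x : Model, x ≠ 1 → (x ∈ setOne ↔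
    ((∃ h : Model, h * swapRep * h⁻¹ = x) ∨ ∃ h : Model, h * centRep * h⁻¹ = x)) := by
  decide +kernel

theorem mem_setTwo_iff : ∀ x : Model, x ∈ setTwo ↔ ∃ h : Model, h * transRep * h⁻¹ = x := by
  decide +kernel

theorem one_notMem : (1 : Model) ∉ setOne ∧ (1 : Model) ∉ setTwo := by decide +kernel

theorem involution_classes : ∀ x : Model, x * x = 1 → x ≠ 1 → x ∈ setOne ∨ x ∈ setTwo := by
  decide +kernel

theorem transposition_conj_transRep : ∀ x : Model, x * x = 1 → fixNum natHom x = 4 →
    ∃ h : Model, h * transRep * h⁻¹ = x := by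
  decide +kernel

theorem cent_class : ∀ x : Model, x * x = 1 → x ≠ 1 →
    (∀ m : Model, m ^ 3 = 1 → x * m * x⁻¹ = m⁻¹) → ∃ h : Model, h * centRep * h⁻¹ = x := by
  decide +kernel

end Cfsg.Lib.Recog.NineEight
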