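import Cfsg.Agent.Lib.Recog.NineEight.ModelFacts
import Mathlib.GroupTheory.Sylow
import Mathlib.GroupTheory.SpecificGroups.Dihedral

/-!
# A self-centralising elementary Sylow 3-subgroup of order 9 with normaliser of order 72
-/

set_option autoImplicit false
set_option linter.unusedSectionVars false
set_option linter.style.haveILetI false

namespace Cfsg.Lib.Recog.NineEight

open Equiv

universe u

variable {G : Type u} [Group G] [Finite G]

/-- The standing hypotheses. -/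
structure Setting (G : Type u) [Group G] where
  /-- The Sylow subgroup. -/
  M : Sylow 3 G
  card_M : Nat.card ↥(M : Subgroup G) = 9
  cube : ∀ m ∈ (M : Subgroup G), m ^ 3 = 1
  cent_M : Subgroup.centralizer ((M : Subgroup G) : Set G) = (M : Subgroup G)
  cent_le : ∀ g ∈ (M : Subgroup G), g ≠ 1 →
    Subgroup.centralizer ({g} : Set G) ≤ Subgroup.normalizer ((M : Subgroup G) : Set G)
  dihedral : ∀ S : Sylow 2 ↥(Subgroup.normalizer ((M : Subgroup G) : Set G)),
    Nonempty (↥(S : Subgroup ↥(Subgroup.normalizer ((M : Subgroup G) : Set G))) ≃* DihedralGroup 4)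

variable (X : Setting G)

/-- The normaliser. -/
abbrev Setting.N : Subgroup G := Subgroup.normalizer ((X.M : Subgroup G) : Set G)

theorem Setting.M_le_N : (X.M : Subgroup G) ≤ X.N := Subgroup.le_normalizer

theorem Setting.conj_mem {x m : G} (hx : x ∈ X.N) (hm : m ∈ (X.M : Subgroup G)) :
    x * m * x⁻¹ ∈ (X.M : Subgroup G) :=
  (Subgroup.mem_normalizer_iff.mp hx m).mp hm

theorem Setting.comm {a b : G} (ha : a ∈ (X.M : Subgroup G)) (hb : b ∈ (X.M : Subgroup G)) :
    a * b = b * a := by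
  haveI : Fact (Nat.Prime 3) := ⟨Nat.prime_three⟩
  haveI : IsMulCommutative ↥(X.M : Subgroup G) :=
    IsPGroup.isMulCommutative_of_card_eq_prime_sq (p := 3) (by rw [X.card_M]; norm_num)
  exact congrArg Subtype.val (mul_comm' (⟨a, ha⟩ : ↥(X.M : Subgroup G)) ⟨b, hb⟩)

theorem Setting.mem_of_centralizes {x : G}
    (hx : ∀ m ∈ (X.M : Subgroup G), x * m = m * x) : x ∈ (X.M : Subgroup G) := by
  rw [← X.cent_M]
  exact Subgroup.mem_centralizer_iff.mpr fun m hm => (hx m hm).symm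

theorem Setting.inv_fix_trivial {m : G} (hm : m ∈ (X.M : Subgroup G)) (h : m⁻¹ = m) : m = 1 := by
  have h2 : m * m = 1 := by nth_rewrite 1 [← h]; exact inv_mul_cancel m
  have h3 := X.cube m hm
  rw [pow_succ, pow_two, h2, one_mul] at h3
  exact h3

/-- An element of `N` of prime order at least five does not exist. -/
theorem Setting.prime_dvd_le {q : ℕ} (hq : q.Prime) (hd : q ∣ Nat.card X.N) : q = 2 ∨ q = 3 := by
  classical
  haveI := Fact.mk hq
  obtain ⟨g, hg⟩ := exists_prime_orderOf_dvd_card' q hd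
  have hg' : orderOf (g : G) = q := by rw [Subgroup.orderOf_coe]; exact hg
  let P : Subgroup G := Subgroup.zpowers (g : G)
  have hP : IsPGroup q P := IsPGroup.of_card (n := 1) (by rw [Nat.card_zpowers, hg', pow_one])
  have hPN : P ≤ X.N := Subgroup.zpowers_le.mpr g.2
  letI act : MulAction P ↥(X.M : Subgroup G) :=
    { smul := fun p m => ⟨(p : G) * m * (p : G)⁻¹, X.conj_mem (hPN p.2) m.2⟩
      one_smul := fun m => Subtype.ext (by show (1 : G) * m * (1 : G)⁻¹ = m; simp)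
      mul_smul := fun p p' m => Subtype.ext (by
        show ((p : G) * p') * m * ((p : G) * p')⁻¹ = (p : G) * ((p' : G) * m * (p' : G)⁻¹) * (p : G)⁻¹
        group) }
  have hmod := hP.card_modEq_card_fixedPoints ↥(X.M : Subgroup G)
  set C : Subgroup G := (X.M : Subgroup G) ⊓ Subgroup.centralizer ({(g : G)} : Set G) with hC
  have hcard : Nat.card (MulAction.fixedPoints P ↥(X.M : Subgroup G)) = Nat.card C := by
    refine Nat.card_congr
      { toFun := fun m => ⟨m.1.1, m.1.2, Subgroup.mem_centralizer_singleton_iff.mpr ?_⟩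
        invFun := fun c => ⟨⟨c.1, c.2.1⟩, fun p => Subtype.ext ?_⟩
        left_inv := fun m => rfl
        right_inv := fun c => rfl }
    · have h := congrArg Subtype.val (m.2 ⟨g, Subgroup.mem_zpowers _⟩)
      change (g : G) * m.1.1 * (g : G)⁻¹ = m.1.1 at h
      exact ((mul_inv_eq_iff_eq_mul.mp h)).symm
    · show (p : G) * c.1 * (p : G)⁻¹ = c.1
      obtain ⟨k, hk⟩ := Subgroup.mem_zpowers_iff.mp p.2
      have hc : Commute (g : G) c.1 :=
        (Subgroup.mem_centralizer_singleton_iff.mp c.2.2).symm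
      rw [← hk, (hc.zpow_left k).eq, mul_inv_cancel_right]
  rw [X.card_M, hcard] at hmod
  have hdvd : Nat.card C ∣ 9 := X.card_M ▸ Subgroup.card_dvd_of_le inf_le_left
  have hdvd' : Nat.card C ∈ ({1, 3, 9} : Finset ℕ) := by
    have h : (9 : ℕ).divisors = {1, 3, 9} := by decide
    rw [← h]
    exact Nat.mem_divisors.mpr ⟨hdvd, by norm_num⟩
  simp only [Finset.mem_insert, Finset.mem_singleton] at hdvd'
  rcases hdvd' with h | h | h <;> rw [h] at hmod
  · have : q ∣ 8 := by simpa using (Nat.modEq_iff_dvd' (by norm_num)).mp hmod.symm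
    exact Or.inl ((Nat.prime_dvd_prime_iff_eq hq Nat.prime_two).mp
      (hq.dvd_of_dvd_pow (n := 3) (by norm_num [this])))
  · have h6 : q ∣ 2 * 3 := by simpa using (Nat.modEq_iff_dvd' (by norm_num)).mp hmod.symm
    exact (hq.dvd_mul.mp h6).imp (fun h => (Nat.prime_dvd_prime_iff_eq hq Nat.prime_two).mp h)
      (fun h => (Nat.prime_dvd_prime_iff_eq hq Nat.prime_three).mp h)
  · have hCM : C = (X.M : Subgroup G) :=
      Subgroup.eq_of_le_of_card_ge inf_le_left (by rw [h, X.card_M])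
    have hgM : (g : G) ∈ (X.M : Subgroup G) := X.mem_of_centralizes fun m hm => by
      rw [← hCM] at hm
      exact (Subgroup.mem_centralizer_singleton_iff.mp hm.2).symm
    exact Or.inr ((Nat.prime_dvd_prime_iff_eq hq Nat.prime_three).mp
      (hg' ▸ orderOf_dvd_of_pow_eq_one (X.cube _ hgM)))

theorem Setting.card_sylow_two (S : Sylow 2 X.N) : Nat.card ↥(S : Subgroup X.N) = 8 := by
  obtain ⟨e⟩ := X.dihedral S
  rw [Nat.card_congr e.toEquiv, DihedralGroup.nat_card]

theorem Setting.card_N : Nat.card X.N = 72 := by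
  haveI : Fact (Nat.Prime 2) := ⟨Nat.prime_two⟩
  haveI : Fact (Nat.Prime 3) := ⟨Nat.prime_three⟩
  obtain ⟨S⟩ : Nonempty (Sylow 2 X.N) := inferInstance
  have h8 := X.card_sylow_two S
  rw [Sylow.card_eq_multiplicity] at h8
  have h2 : (Nat.card X.N).factorization 2 = 3 :=
    Nat.pow_right_injective (le_refl 2) (by simpa using h8)
  have h9 := Sylow.card_eq_multiplicity (X.M.subtype X.M_le_N)
  rw [Sylow.coe_subtype, Nat.card_congr (Subgroup.subgroupOfEquivOfLe X.M_le_N).toEquiv,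
    X.card_M] at h9
  have h3 : (Nat.card X.N).factorization 3 = 2 :=
    Nat.pow_right_injective (by norm_num : 2 ≤ 3) (by simpa using h9.symm)
  refine Nat.eq_of_factorization_eq Nat.card_pos.ne' (by norm_num) fun p => ?_
  have h72 : (72 : ℕ).factorization = Finsupp.single 2 3 + Finsupp.single 3 2 := by
    rw [show (72 : ℕ) = 2 ^ 3 * 3 ^ 2 by norm_num, Nat.factorization_mul (by norm_num)
      (by norm_num), Nat.Prime.factorization_pow Nat.prime_two,
      Nat.Prime.factorization_pow Nat.prime_three]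
  rw [h72, Finsupp.add_apply, Finsupp.single_apply, Finsupp.single_apply]
  by_cases e2 : 2 = p
  · subst e2; rw [if_pos rfl, if_neg (by norm_num), h2, add_zero]
  by_cases e3 : 3 = p
  · subst e3; rw [if_neg (by norm_num), if_pos rfl, h3]
  rw [if_neg e2, if_neg e3, add_zero]
  by_cases hp : p.Prime
  · exact Nat.factorization_eq_zero_of_not_dvd fun hd => by
      rcases X.prime_dvd_le hp hd with h | h <;> omega
  · exact Nat.factorization_eq_zero_of_not_prime _ hp

/-- An element of `M` and the square of an element normalising its cyclic group commute. -/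
theorem sq_fixes {s w : G}
    (h : s * w * s⁻¹ = w ∨ s * w * s⁻¹ = w⁻¹) : s * s * w * (s * s)⁻¹ = w := by
  have e : s * s * w * (s * s)⁻¹ = s * (s * w * s⁻¹) * s⁻¹ := by group
  rcases h with h | h
  · rw [e, h, h]
  · rw [e, h, show s * w⁻¹ * s⁻¹ = (s * w * s⁻¹)⁻¹ by group, h, inv_inv]

theorem eq_or_eq_inv_of_mem_line {W : Subgroup G} (hW : Nat.card W = 3) {w v : G} (hw : w ∈ W)
    (hv : v ∈ W) (hw1 : w ≠ 1) (hv1 : v ≠ 1) : v = w ∨ v = w⁻¹ := by
  haveI : Fact (Nat.Prime 3) := ⟨Nat.prime_three⟩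
  have hmem : (⟨v, hv⟩ : W) ∈ Subgroup.zpowers (⟨w, hw⟩ : W) :=
    mem_zpowers_of_prime_card hW fun e => hw1 (congrArg Subtype.val e)
  obtain ⟨k, hk⟩ := Subgroup.mem_zpowers_iff.mp hmem
  have h3 : (⟨w, hw⟩ : W) ^ (3 : ℤ) = 1 := by
    rw [show (3 : ℤ) = ((Nat.card W : ℕ) : ℤ) by rw [hW]; rfl, zpow_natCast, pow_card_eq_one']
  rw [← Int.emod_add_mul_ediv k 3, zpow_add, zpow_mul, h3, one_zpow, mul_one] at hk
  have hk' := congrArg Subtype.val hk
  have := Int.emod_nonneg k (by norm_num : (3 : ℤ) ≠ 0)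
  have := Int.emod_lt_of_pos k (by norm_num : (0 : ℤ) < 3)
  rcases (by omega : k % 3 = 0 ∨ k % 3 = 1 ∨ k % 3 = 2) with e | e | e <;> rw [e] at hk'
  · exact absurd (by simpa using hk'.symm) hv1
  · exact Or.inl (by simpa using hk'.symm)
  · right
    have h3' : w ^ 3 = 1 := by
      have := congrArg Subtype.val (pow_card_eq_one' (x := (⟨w, hw⟩ : W)))
      rwa [hW] at this
    simp only [zpow_ofNat, SubmonoidClass.coe_pow, SubgroupClass.coe_zpow] at hk'
    rw [← hk']
    exact eq_inv_of_mul_eq_one_left (by rw [← pow_succ]; exact h3')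

/-- A proper nontrivial subgroup of `M` has order three. -/
theorem Setting.card_line {W : Subgroup G} (hW : W ≤ (X.M : Subgroup G)) (h1 : W ≠ ⊥)
    (h2 : W ≠ (X.M : Subgroup G)) : Nat.card W = 3 := by
  have hd : Nat.card W ∣ 3 ^ 2 := (by norm_num : (3 : ℕ) ^ 2 = 9) ▸ X.card_M ▸
    Subgroup.card_dvd_of_le hW
  obtain ⟨i, hi, hc⟩ := (Nat.dvd_prime_pow Nat.prime_three).mp hd
  rcases (by omega : i = 0 ∨ i = 1 ∨ i = 2) with e | e | e <;> subst e
  · exact absurd (W.card_eq_one.mp (by simpa using hc)) h1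
  · simpa using hc
  · exact absurd (Subgroup.eq_of_le_of_card_ge hW (by rw [X.card_M, hc]; norm_num)) h2

/-- The elements of `M` fixed by `x`. -/
abbrev Setting.fixSub (x : G) : Subgroup G :=
  (X.M : Subgroup G) ⊓ Subgroup.centralizer ({x} : Set G)

theorem Setting.mem_fixSub {x m : G} :
    m ∈ X.fixSub x ↔ m ∈ (X.M : Subgroup G) ∧ m * x = x * m := by
  simp [Setting.fixSub, Subgroup.mem_centralizer_singleton_iff]

/-- The elements of `M` inverted by `x`. -/
def Setting.invSub (x : G) : Subgroup G where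
  carrier := {m | m ∈ (X.M : Subgroup G) ∧ x * m * x⁻¹ = m⁻¹}
  one_mem' := ⟨one_mem _, by simp⟩
  mul_mem' := fun {a b} ha hb => ⟨mul_mem ha.1 hb.1, by
    rw [show x * (a * b) * x⁻¹ = x * a * x⁻¹ * (x * b * x⁻¹) by group, ha.2, hb.2, mul_inv_rev,
      X.comm (inv_mem ha.1) (inv_mem hb.1)]⟩
  inv_mem' := fun {a} ha => ⟨inv_mem ha.1, by
    rw [show x * a⁻¹ * x⁻¹ = (x * a * x⁻¹)⁻¹ by group, ha.2]⟩

theorem Setting.invSub_le (x : G) : X.invSub x ≤ (X.M : Subgroup G) := fun _ h => h.1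

theorem Setting.invol_decompose {x : G} (hxN : x ∈ X.N) (hx : x * x = 1) {m : G}
    (hm : m ∈ (X.M : Subgroup G)) :
    m * (x * m * x⁻¹) ∈ X.fixSub x ∧ m * (x * m * x⁻¹)⁻¹ ∈ X.invSub x := by
  have hxi : x⁻¹ = x := inv_eq_of_mul_eq_one_right hx
  have hc : x * m * x⁻¹ ∈ (X.M : Subgroup G) := X.conj_mem hxN hm
  have e : x * (x * m * x⁻¹) * x⁻¹ = m := by
    calc x * (x * m * x⁻¹) * x⁻¹ = (x * x) * m * (x * x)⁻¹ := by group
      _ = m := by rw [hx]; simp
  refine ⟨X.mem_fixSub.mpr ⟨mul_mem hm hc, ?_⟩, mul_mem hm (inv_mem hc), ?_⟩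
  · refine (mul_inv_eq_iff_eq_mul.mp (?_ : x * (m * (x * m * x⁻¹)) * x⁻¹ = _)).symm
    rw [show x * (m * (x * m * x⁻¹)) * x⁻¹ = x * m * x⁻¹ * (x * (x * m * x⁻¹) * x⁻¹) by group, e,
      X.comm hc hm]
  · rw [show x * (m * (x * m * x⁻¹)⁻¹) * x⁻¹ = x * m * x⁻¹ * (x * (x * m * x⁻¹) * x⁻¹)⁻¹ by group,
      e, mul_inv_rev, inv_inv]

theorem Setting.invol_trivial_inv {x : G} (hxN : x ∈ X.N) (hx : x * x = 1) (hx1 : x ≠ 1) :
    X.invSub x ≠ ⊥ := by
  intro h
  have hxM : x ∈ (X.M : Subgroup G) := X.mem_of_centralizes fun m hm => by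
    have := (X.invol_decompose hxN hx hm).2
    rw [h, Subgroup.mem_bot, mul_inv_eq_one] at this
    exact (mul_inv_eq_iff_eq_mul.mp this.symm)
  exact hx1 (X.inv_fix_trivial hxM (inv_eq_of_mul_eq_one_right hx))

theorem Setting.fix_inf_inv (x : G) {m : G} (hf : m ∈ X.fixSub x) (hi : m ∈ X.invSub x) :
    m = 1 := by
  refine X.inv_fix_trivial hi.1 ?_
  rw [← hi.2, ← (X.mem_fixSub.mp hf).2, mul_inv_cancel_right]

theorem dihedral_centre_sq : ∀ x : DihedralGroup 4, x * x = 1 → x ≠ 1 →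
    (∀ y, x * y = y * x) → x = DihedralGroup.r 1 * DihedralGroup.r 1 := by decide +kernel

theorem dihedral_rotation : (DihedralGroup.r 1 * DihedralGroup.r 1 : DihedralGroup 4) ≠ 1 ∧
    (DihedralGroup.r 1 * DihedralGroup.r 1 : DihedralGroup 4) *
      (DihedralGroup.r 1 * DihedralGroup.r 1) = 1 ∧
    ∀ y : DihedralGroup 4, DihedralGroup.r 1 * DihedralGroup.r 1 * y =
      y * (DihedralGroup.r 1 * DihedralGroup.r 1) := by decide +kernel

/-- A central involution of a Sylow 2-subgroup of `N` is a square and inverts `M`. -/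
theorem Setting.central_inverts (S : Sylow 2 X.N) {z : X.N} (hz : z ∈ (S : Subgroup X.N))
    (hz2 : z * z = 1) (hz1 : z ≠ 1) (hc : ∀ y ∈ (S : Subgroup X.N), z * y = y * z) :
    ∃ s : X.N, s * s = z ∧ ∀ m ∈ (X.M : Subgroup G), (z : G) * m * (z : G)⁻¹ = m⁻¹ := by
  obtain ⟨e⟩ := X.dihedral S
  obtain ⟨s, hs⟩ : ∃ s : ↥(S : Subgroup X.N), s * s = ⟨z, hz⟩ := by
    refine ⟨e.symm (DihedralGroup.r 1), e.injective ?_⟩
    rw [map_mul, e.apply_symm_apply]
    refine (dihedral_centre_sq _ ?_ ?_ fun y => ?_).symm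
    · rw [← map_mul, show (⟨z, hz⟩ : ↥(S : Subgroup X.N)) * ⟨z, hz⟩ = 1 from Subtype.ext hz2,
        map_one]
    · exact fun h => hz1 (congrArg Subtype.val ((map_eq_one_iff e e.injective).mp h))
    · rw [← e.apply_symm_apply y, ← map_mul, ← map_mul]
      exact congrArg e (Subtype.ext (hc _ (e.symm y).2))
  have hs' : (s : X.N) * s = z := congrArg Subtype.val hs
  refine ⟨s, hs', fun m hm => ?_⟩
  set sg : G := ((s : X.N) : G) with hsg
  have hsq : sg * sg = (z : G) := congrArg Subtype.val hs'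
  have hsN : sg ∈ X.N := (s : X.N).2
  have hzz : (z : G) * z = 1 := congrArg Subtype.val hz2
  have hz1' : (z : G) ≠ 1 := fun h => hz1 (Subtype.ext h)
  have hcomm : sg * (z : G) = (z : G) * sg := by rw [← hsq, mul_assoc]
  by_contra hne
  -- a nonidentity fixed element
  have hm' := (X.invol_decompose z.2 hzz hm).1
  have hF : X.fixSub z ≠ ⊥ := fun h => by
    rw [h, Subgroup.mem_bot] at hm'
    exact hne (eq_inv_of_mul_eq_one_right hm')
  have hI := X.invol_trivial_inv z.2 hzz hz1'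
  have hIM : X.invSub z ≠ (X.M : Subgroup G) := fun h => by
    obtain ⟨a, ha, ha1⟩ := (Subgroup.ne_bot_iff_exists_ne_one.mp hF) |> fun ⟨a, ha⟩ =>
      (⟨a.1, a.2, fun e => ha (Subtype.ext e)⟩ : ∃ a, a ∈ X.fixSub z ∧ a ≠ 1)
    exact ha1 (X.fix_inf_inv _ ha (h ▸ (X.mem_fixSub.mp ha).1))
  have h3 := X.card_line (X.invSub_le _) hI hIM
  obtain ⟨⟨w, hw⟩, hw1⟩ := Subgroup.ne_bot_iff_exists_ne_one.mp hI
  have hw1' : w ≠ 1 := fun e => hw1 (Subtype.ext e)
  have hv : sg * w * sg⁻¹ ∈ X.invSub z := by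
    refine ⟨X.conj_mem hsN hw.1, ?_⟩
    calc (z : G) * (sg * w * sg⁻¹) * (z : G)⁻¹ = ((z : G) * sg) * w * ((z : G) * sg)⁻¹ := by group
      _ = sg * ((z : G) * w * (z : G)⁻¹) * sg⁻¹ := by rw [← hcomm]; group
      _ = (sg * w * sg⁻¹)⁻¹ := by rw [hw.2]; group
  have hfix := sq_fixes (eq_or_eq_inv_of_mem_line h3 hw hv hw1'
    (fun e => hw1' (by simpa using e)))
  rw [hsq] at hfix
  exact hw1' (X.inv_fix_trivial hw.1 (hw.2.symm.trans hfix))

end Cfsg.Lib.Recog.NineEight
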